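/-
Certified coset enumeration with generators in inverse pairs (`0`, `1` involutions; `2, 3` and `4, 5` inverse pairs;
`6` the identity letter): the checks and their soundness.
-/
import Cfsg.Agent.Lib.CosetEnum.Sound
import Mathlib.SetTheory.Cardinal.Finite
import Mathlib.Data.Set.Card

set_option autoImplicit false

namespace CfsgLib.J1Unique

open CfsgLib.CosetEnum

/-- The inverse letter. -/
noncomputable def iv (x : ℕ) : ℕ := fld (nat_lit 105194256) (Nat.mul (nat_lit 4) x) (nat_lit 4)

namespace Data

/-- One step of a walk, forwards with the label or backwards with the inverse label. -/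
noncomputable def gstep (D : CosetEnum.Data) (u f c p : ℕ) (cont : ℕ → ℕ → Bool) : Bool :=
  force (Data.lab f) fun l => force (Data.src f) fun a => force (Data.tgt f) fun b =>
    Bool.rec
      (Bool.rec
        (Bool.rec false (cont a (Nat.succ p))
          (Nat.beq c b && Nat.blt l (nat_lit 7) && Nat.blt p (wlen u) && Nat.beq (letter u p) (iv l)))
        (cont b (Nat.succ p))
        (Nat.beq c a && Nat.blt p (wlen u) && Nat.beq (letter u p) l))
      (Bool.rec (Bool.rec false (cont a p) (Nat.beq c b)) (cont b p) (Nat.beq c a))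
      (Nat.beq l D.k)

/-- A walk along `m` facts with indices below `j`. -/
noncomputable def gwalk (D : CosetEnum.Data) (j u : ℕ) (m : ℕ) : ℕ → ℕ → ℕ → (ℕ → ℕ → ℕ → Bool) → Bool :=
  Nat.rec (fun c p refs cont => cont c p refs)
    (fun _ ih c p refs cont => force (fld refs (nat_lit 0) (nat_lit 20)) fun i =>
      Nat.blt i j && force (D.fact i) fun f => gstep D u f c p fun c' p' =>
        force p' fun p'' => force c' fun c'' => force (Nat.shiftRight refs (nat_lit 20)) fun refs' =>
          ih c'' p'' refs' cont) m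

/-- The fact `j` follows from earlier facts by the justification `r`. -/
noncomputable def gokJust (D : CosetEnum.Data) (j r : ℕ) : Bool :=
  force (D.fact j) fun f => force (Data.lab f) fun x => force (Data.src f) fun a => force (Data.tgt f) fun b =>
  force (fld r (nat_lit 0) (nat_lit 12)) fun w =>
    Bool.rec
      (Nat.blt w D.nw && Nat.ble x D.k && force (D.words.get w) fun u =>
        force (fld r (nat_lit 12) (nat_lit 12)) fun i => force (fld r (nat_lit 24) (nat_lit 20)) fun st =>
          (Bool.rec true (Nat.beq st (nat_lit 0)) (Nat.blt w D.nh)) &&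
          gwalk D j u (fld r (nat_lit 44) (nat_lit 12)) st (nat_lit 0) (Nat.shiftRight r (nat_lit 68)) fun c p refs =>
            Nat.beq c a && Nat.beq p i &&
              (Bool.rec (Nat.blt i (wlen u) && Nat.beq (letter u i) x) true (Nat.beq x D.k)) &&
              force (Bool.rec (Nat.succ i) i (Nat.beq x D.k)) fun i' =>
                gwalk D j u (fld r (nat_lit 56) (nat_lit 12)) b i' refs fun c' p' _ =>
                  Nat.beq c' st && Nat.beq p' (wlen u))
      (Nat.blt a b && Nat.blt x D.k && Nat.beq (D.parent b) (Nat.add (Nat.mul a (nat_lit 16)) x))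
      (Nat.beq w (nat_lit 4095))

/-- A chunk of justifications starting at the fact `lo`. -/
noncomputable def gokChunk (D : CosetEnum.Data) (lo : ℕ) (L : List ℕ) : Bool :=
  List.rec (motive := fun _ => ℕ → Bool) (fun _ => true)
    (fun r _ ih j => gokJust D j r && force (Nat.succ j) ih) L lo


variable {D : CosetEnum.Data} {Ω : Type*} {base : Ω} {s : ℕ → Ω → Ω}
variable (hinv : ∀ x, x < 7 → ∀ v, s (iv x) (s x v) = v) (hinj : ∀ x, Function.Injective (s x))
  (hk : ∀ v, s D.k v = v)

include hinj in
theorem grun_injective (w : List ℕ) : Function.Injective (run s w) := by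
  induction w with
  | nil => exact fun _ _ e => e
  | cons x w ih => exact fun a b e => hinj x (ih e)

include hinv hk in
theorem gstep_sound {u f c p : ℕ} {cont : ℕ → ℕ → Bool}
    (hf : s (Data.lab f) (D.val base s (Data.src f)) = D.val base s (Data.tgt f)) (h : gstep D u f c p cont = true) :
    ∃ c' p', cont c' p' = true ∧ p ≤ p' ∧
      run s (seg u p p') (D.val base s c) = D.val base s c' := by
  simp only [gstep, force_eq] at h
  cases hl : Nat.beq (Data.lab f) D.k with
  | true =>
    rw [hl] at h
    rw [Nat.eq_of_beq_eq_true hl, hk] at hf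
    cases h1 : Nat.beq c (Data.src f) with
    | true =>
      rw [h1] at h
      exact ⟨_, p, h, le_rfl, by rw [seg_self, Nat.eq_of_beq_eq_true h1, hf]; rfl⟩
    | false =>
      rw [h1] at h
      cases h2 : Nat.beq c (Data.tgt f) with
      | true =>
        rw [h2] at h
        exact ⟨_, p, h, le_rfl, by rw [seg_self, Nat.eq_of_beq_eq_true h2, hf]; rfl⟩
      | false =>
        rw [h2] at h
        exact absurd h Bool.false_ne_true
  | false =>
    rw [hl] at h
    cases h1 : (Nat.beq c (Data.src f) && Nat.blt p (wlen u) && Nat.beq (letter u p) (Data.lab f)) with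
    | true =>
      rw [h1] at h
      simp only [Bool.and_eq_true] at h1
      refine ⟨_, p + 1, h, Nat.le_succ p, ?_⟩
      rw [seg_succ, Nat.eq_of_beq_eq_true h1.1.1, Nat.eq_of_beq_eq_true h1.2, ← hf]
      rfl
    | false =>
      rw [h1] at h
      cases h2 : (Nat.beq c (Data.tgt f) && Nat.blt (Data.lab f) (nat_lit 7) && Nat.blt p (wlen u) &&
          Nat.beq (letter u p) (iv (Data.lab f))) with
      | true =>
        rw [h2] at h
        simp only [Bool.and_eq_true, blt_iff] at h2
        refine ⟨_, p + 1, h, Nat.le_succ p, ?_⟩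
        rw [seg_succ, Nat.eq_of_beq_eq_true h2.1.1.1, Nat.eq_of_beq_eq_true h2.2, ← hf]
        exact hinv _ h2.1.1.2 _
      | false =>
        rw [h2] at h
        exact absurd h Bool.false_ne_true

include hinv hk in
theorem gwalk_sound (j u : ℕ) (hj : ∀ i < j, D.Holds base s i) :
    ∀ (m c p refs : ℕ) (cont : ℕ → ℕ → ℕ → Bool), gwalk D j u m c p refs cont = true →
      ∃ c' p' refs', cont c' p' refs' = true ∧ p ≤ p' ∧
        run s (seg u p p') (D.val base s c) = D.val base s c' := by
  intro m
  induction m with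
  | zero =>
    intro c p refs cont h
    exact ⟨c, p, refs, h, le_rfl, by rw [seg_self]; rfl⟩
  | succ m ih =>
    intro c p refs cont h
    simp only [gwalk, force_eq] at h
    rw [Bool.and_eq_true, blt_iff] at h
    obtain ⟨c₁, p₁, h₁, hp₁, e₁⟩ := gstep_sound hinv hk (hj _ h.1) h.2
    obtain ⟨c', p', refs', h₂, hp₂, e₂⟩ := ih c₁ p₁ (Nat.shiftRight refs 20) cont (by simp only [gwalk, force_eq]; exact h₁)
    exact ⟨c', p', refs', h₂, hp₁.trans hp₂, by rw [seg_trans u hp₁ hp₂, run_append, e₁, e₂]⟩

include hinv hinj hk in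
theorem gokJust_sound (hwh : ∀ w < D.nh, run s (wordOf (D.words.get w)) base = base)
    (hwr : ∀ w, D.nh ≤ w → w < D.nw → ∀ v, run s (wordOf (D.words.get w)) v = v)
    (j r : ℕ) (hj : ∀ i < j, D.Holds base s i) (h : gokJust D j r = true) : D.Holds base s j := by
  simp only [gokJust, force_eq] at h
  unfold CosetEnum.Data.Holds
  set x := Data.lab (D.fact j)
  set a := Data.src (D.fact j)
  set b := Data.tgt (D.fact j)
  cases hd : Nat.beq (fld r (nat_lit 0) (nat_lit 12)) (nat_lit 4095) with
  | true =>
    rw [hd] at h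
    simp only [Bool.and_eq_true, blt_iff] at h
    obtain ⟨⟨hab, hx⟩, he⟩ := h
    have he' : D.parent b = a * 16 + x := Nat.eq_of_beq_eq_true he
    have hx' : x < 16 := Nat.mod_lt _ (Nat.two_pow_pos 4)
    conv_rhs => rw [CosetEnum.Data.val]
    rw [if_neg (by omega : ¬ b = 0), he', dif_pos (by omega : (a * 16 + x) / 16 < b),
      show (a * 16 + x) / 16 = a by omega, show (a * 16 + x) % 16 = x by omega]
  | false =>
    rw [hd] at h
    simp only [Bool.and_eq_true, blt_iff] at h
    set w := fld r (nat_lit 0) (nat_lit 12)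
    set i := fld r (nat_lit 12) (nat_lit 12)
    set st := fld r (nat_lit 24) (nat_lit 20)
    set u := D.words.get w
    obtain ⟨⟨hw, -⟩, hst, hwalk⟩ := h
    obtain ⟨c, p, refs, hc, hp, e₁⟩ := gwalk_sound hinv hk j u hj _ _ _ _ _ hwalk
    simp only [Bool.and_eq_true] at hc
    obtain ⟨⟨⟨hca, hpi⟩, hxi⟩, hwalk₂⟩ := hc
    obtain ⟨c', p', refs', hc', hp', e₂⟩ := gwalk_sound hinv hk j u hj _ _ _ _ _ hwalk₂
    rw [Bool.and_eq_true] at hc'
    rw [Nat.eq_of_beq_eq_true hca, Nat.eq_of_beq_eq_true hpi] at e₁
    rw [Nat.eq_of_beq_eq_true hc'.1, Nat.eq_of_beq_eq_true hc'.2] at e₂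
    have hfix : run s (wordOf u) (D.val base s st) = D.val base s st := by
      by_cases hwn : w < D.nh
      · have hst0 : st = 0 := by
          rw [show Nat.blt w D.nh = true from blt_iff.mpr hwn] at hst
          exact Nat.eq_of_beq_eq_true hst
        rw [hst0, CosetEnum.Data.val, if_pos rfl]
        exact hwh w hwn
      · exact hwr w (by omega) hw _
    have hi' : ∀ i', i ≤ i' → i' ≤ wlen u → run s (seg u i' (wlen u)) (run s (seg u i i') (D.val base s a)) =
        D.val base s st := by
      intro i' h1 h2
      rw [← e₁, ← run_append, ← run_append, ← seg_trans u h1 h2, ← seg_trans u (Nat.zero_le i) (h1.trans h2)]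
      exact hfix
    cases hb : Nat.beq x D.k with
    | true =>
      rw [hb] at e₂ hp'
      rw [Nat.eq_of_beq_eq_true hb, hk]
      refine grun_injective hinj (seg u i (wlen u)) ?_
      rw [show run s (seg u i (wlen u)) (D.val base s b) = D.val base s st from e₂]
      have := hi' i le_rfl (Nat.eq_of_beq_eq_true hc'.2 ▸ hp')
      rwa [seg_self] at this
    | false =>
      rw [hb] at e₂ hp' hxi
      simp only [Bool.and_eq_true, blt_iff] at hxi
      refine grun_injective hinj (seg u (i + 1) (wlen u)) ?_
      rw [show run s (seg u (i + 1) (wlen u)) (D.val base s b) = D.val base s st from e₂]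
      have := hi' (i + 1) (Nat.le_succ i) hxi.1
      rw [seg_succ, Nat.eq_of_beq_eq_true hxi.2] at this
      exact this

include hinv hinj hk in
theorem gokChunk_sound (hwh : ∀ w < D.nh, run s (wordOf (D.words.get w)) base = base)
    (hwr : ∀ w, D.nh ≤ w → w < D.nw → ∀ v, run s (wordOf (D.words.get w)) v = v) :
    ∀ (L : List ℕ) (lo : ℕ), gokChunk D lo L = true → (∀ i < lo, D.Holds base s i) →
      ∀ i < lo + L.length, D.Holds base s i := by
  intro L
  induction L with
  | nil => intro lo _ h i hi; exact h i (by simpa using hi)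
  | cons r L ih =>
    intro lo h hlo i hi
    simp only [gokChunk, force_eq, Bool.and_eq_true] at h
    have h0 := gokJust_sound hinv hinj hk hwh hwr lo r hlo h.1
    refine ih (lo + 1) h.2 (fun i hi => ?_) i (by simp only [List.length_cons] at hi; omega)
    rcases Nat.lt_succ_iff_lt_or_eq.mp hi with h' | rfl
    · exact hlo i h'
    · exact h0


/-- The table is closed: each entry `(x, d)` is a fact between representatives. -/
noncomputable def gokRow (D : CosetEnum.Data) (rep : Tree) (n nf d : ℕ) (L : List ℕ) : Bool :=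
  force (entry rep (nat_lit 64) (nat_lit 20) d) fun c =>
  List.rec (motive := fun _ => ℕ → Bool) (fun x => Nat.beq x (nat_lit 6))
    (fun r _ ih x => force (fld r (nat_lit 0) (nat_lit 20)) (fun i => force (fld r (nat_lit 20) (nat_lit 20)) fun d' =>
        Nat.blt i nf && Nat.blt d' n && force (D.fact i) fun f => force (entry rep (nat_lit 64) (nat_lit 20) d') fun c' =>
          Bool.rec (Nat.blt x (nat_lit 7) && Nat.beq (Data.lab f) (iv x) && Nat.beq (Data.tgt f) c &&
              Nat.beq (Data.src f) c' && Nat.blt (iv x) (nat_lit 7) && Nat.beq (iv (iv x)) x) true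
            (Nat.beq (Data.lab f) x && Nat.beq (Data.src f) c && Nat.beq (Data.tgt f) c')) &&
      force (Nat.succ x) ih) L (nat_lit 0)

/-- A chunk of rows. -/
noncomputable def gokRows (D : CosetEnum.Data) (rep : Tree) (n nf lo : ℕ) (L : List (List ℕ)) : Bool :=
  List.rec (motive := fun _ => ℕ → Bool) (fun _ => true)
    (fun r _ ih d => gokRow D rep n nf d r && force (Nat.succ d) ih) L lo

include hinv in
theorem gokRow_sound {rep : Tree} {n nf d : ℕ} (hh : ∀ i < nf, D.Holds base s i) :
    ∀ (L : List ℕ) (x : ℕ), (List.rec (motive := fun _ => ℕ → Bool) (fun x => Nat.beq x (nat_lit 6))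
      (fun r _ ih x => force (fld r (nat_lit 0) (nat_lit 20)) (fun i => force (fld r (nat_lit 20) (nat_lit 20)) fun d' =>
        Nat.blt i nf && Nat.blt d' n && force (D.fact i) fun f => force (entry rep (nat_lit 64) (nat_lit 20) d') fun c' =>
          Bool.rec (Nat.blt x (nat_lit 7) && Nat.beq (Data.lab f) (iv x) &&
              Nat.beq (Data.tgt f) (entry rep (nat_lit 64) (nat_lit 20) d) &&
              Nat.beq (Data.src f) c' && Nat.blt (iv x) (nat_lit 7) && Nat.beq (iv (iv x)) x) true
            (Nat.beq (Data.lab f) x && Nat.beq (Data.src f) (entry rep (nat_lit 64) (nat_lit 20) d) &&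
              Nat.beq (Data.tgt f) c')) &&
        force (Nat.succ x) ih) L) x = true →
      ∀ y, x ≤ y → y < 6 → ∃ d' < n, s y (D.val base s (entry rep 64 20 d)) = D.val base s (entry rep 64 20 d') := by
  intro L
  induction L with
  | nil =>
    intro x h y h1 h2
    have h' : x = 6 := Nat.eq_of_beq_eq_true h
    omega
  | cons r L ih =>
    intro x h y h1 h2
    simp only [force_eq, Bool.and_eq_true, blt_iff] at h
    obtain ⟨⟨⟨hi, hd'⟩, hor⟩, hrest⟩ := h
    rcases Nat.lt_or_eq_of_le h1 with h3 | h3
    · exact ih (x + 1) (by simp only [force_eq]; exact hrest) y h3 h2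
    subst h3
    refine ⟨_, hd', ?_⟩
    have hf := hh _ hi
    unfold CosetEnum.Data.Holds at hf
    set f := D.fact (fld r 0 20)
    set c' := entry rep 64 20 (fld r 20 20)
    cases hb : (Nat.beq (Data.lab f) x && Nat.beq (Data.src f) (entry rep (nat_lit 64) (nat_lit 20) d) &&
        Nat.beq (Data.tgt f) c') with
    | true =>
      simp only [Bool.and_eq_true] at hb
      rwa [Nat.eq_of_beq_eq_true hb.1.1, Nat.eq_of_beq_eq_true hb.1.2, Nat.eq_of_beq_eq_true hb.2] at hf
    | false =>
      rw [hb] at hor
      simp only [Bool.and_eq_true, blt_iff] at hor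
      obtain ⟨⟨⟨⟨⟨-, hl⟩, ht⟩, hs⟩, h7⟩, hii⟩ := hor
      rw [Nat.eq_of_beq_eq_true hl, Nat.eq_of_beq_eq_true hs, Nat.eq_of_beq_eq_true ht] at hf
      rw [← hf]
      have := hinv _ h7 (D.val base s c')
      rwa [Nat.eq_of_beq_eq_true hii] at this

include hinv in
theorem gokRows_sound {rep : Tree} {n nf : ℕ} (hh : ∀ i < nf, D.Holds base s i) :
    ∀ (L : List (List ℕ)) (lo : ℕ), gokRows D rep n nf lo L = true → ∀ d, lo ≤ d → d < lo + L.length →
      ∀ y < 6, ∃ d' < n, s y (D.val base s (entry rep 64 20 d)) = D.val base s (entry rep 64 20 d') := by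
  intro L
  induction L with
  | nil => intro lo _ d h1 h2; simp at h2; omega
  | cons r L ih =>
    intro lo h d h1 h2 y hy
    simp only [gokRows, force_eq, Bool.and_eq_true] at h
    rcases Nat.lt_or_eq_of_le h1 with h3 | h3
    · exact ih (lo + 1) h.2 d h3 (by simp only [List.length_cons] at h2; omega) y hy
    subst h3
    have h0 := h.1
    simp only [gokRow, force_eq] at h0
    exact gokRow_sound hinv hh r 0 (by simp only [force_eq]; exact h0) y (Nat.zero_le y) hy

end Data

end CfsgLib.J1Unique
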