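/-
A certified coset enumeration bounds the index of a subgroup.
-/
import Cfsg.Agent.Lib.J1Unique.Checker
import Mathlib.GroupTheory.GroupAction.Quotient
import Mathlib.GroupTheory.Index

set_option autoImplicit false

namespace CfsgLib.J1Unique

open CfsgLib.CosetEnum

/-- Generators in inverse pairs generating the group. -/
structure GoodGens {K : Type*} [Group K] (g : ℕ → K) : Prop where
  inv : ∀ x, x < 7 → g (iv x) = (g x)⁻¹
  triv : ∀ x, 6 ≤ x → g x = 1
  gen : Subgroup.closure (Set.range g) = ⊤

/-- The words reading a generator followed by its inverse. -/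
def trivWords : List (List ℕ) := [[0, 0], [1, 1], [2, 3], [3, 2], [4, 5], [5, 4]]

theorem iv_lt : ∀ x, x < 7 → iv x < 7 := by decide +kernel

theorem trivWords_ok : ∀ w ∈ trivWords, ∃ x, x < 7 ∧ w = [x, iv x] := by
  intro w hw
  simp only [trivWords, List.mem_cons, List.not_mem_nil, or_false] at hw
  rcases hw with rfl | rfl | rfl | rfl | rfl | rfl
  · exact ⟨0, by decide, by decide +kernel⟩
  · exact ⟨1, by decide, by decide +kernel⟩
  · exact ⟨2, by decide, by decide +kernel⟩
  · exact ⟨3, by decide, by decide +kernel⟩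
  · exact ⟨4, by decide, by decide +kernel⟩
  · exact ⟨5, by decide, by decide +kernel⟩

universe u in
theorem index_le_of {K : Type u} [Group K] [Finite K] (H : Subgroup K) (g : ℕ → K) (hg : GoodGens g)
    (D : CosetEnum.Data) (rep : Tree) (n nf : ℕ) (hD : D.k = 6) (hnh : D.nh ≤ D.nw)
    (subW relW : List (List ℕ))
    (hwords : D.nh = subW.length ∧
      (List.range D.nw).map (fun w => wordOf (D.words.get w)) = subW ++ (relW ++ trivWords))
    (hsub : ∀ w ∈ subW, (w.map g).prod ∈ H) (hrel : ∀ w ∈ relW, (w.map g).prod = 1)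
    (hfacts : ∀ (Ω : Type u) (base : Ω) (s : ℕ → Ω → Ω), (∀ x, x < 7 → ∀ v, s (iv x) (s x v) = v) →
      (∀ x, Function.Injective (s x)) → (∀ v, s D.k v = v) →
      (∀ w < D.nh, run s (wordOf (D.words.get w)) base = base) →
      (∀ w, D.nh ≤ w → w < D.nw → ∀ v, run s (wordOf (D.words.get w)) v = v) →
      ∀ i < nf, D.Holds base s i)
    (hrows : ∀ (Ω : Type u) (base : Ω) (s : ℕ → Ω → Ω), (∀ x, x < 7 → ∀ v, s (iv x) (s x v) = v) →
      (∀ i < nf, D.Holds base s i) →
      ∀ d < n, ∀ y < 6, ∃ d' < n, s y (D.val base s (entry rep 64 20 d)) = D.val base s (entry rep 64 20 d'))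
    (hn : 0 < n) (hbase : entry rep 64 20 0 = 0) : H.index ≤ n := by
  classical
  let Ω := K ⧸ H
  let base : Ω := ((1 : K) : K ⧸ H)
  let s : ℕ → Ω → Ω := fun x v => (g x)⁻¹ • v
  have hinv : ∀ x, x < 7 → ∀ v, s (iv x) (s x v) = v := fun x hx v => by
    show (g (iv x))⁻¹ • ((g x)⁻¹ • v) = v
    rw [hg.inv x hx, inv_inv, smul_inv_smul]
  have hinj : ∀ x, Function.Injective (s x) := fun x a b e => smul_left_cancel _ e
  have hk : ∀ v, s D.k v = v := fun v => by
    show (g D.k)⁻¹ • v = v
    rw [hD, hg.triv 6 le_rfl, inv_one, one_smul]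
  have hrun : ∀ (w : List ℕ) (v : Ω), run s w v = ((w.map g).prod)⁻¹ • v := by
    intro w
    induction w with
    | nil => intro v; simp [run]
    | cons x w ih =>
      intro v
      rw [show run s (x :: w) v = run s w (s x v) from rfl, ih, List.map_cons, List.prod_cons, _root_.mul_inv_rev,
        mul_smul]
  have hget : ∀ w, w < D.nw → ∃ hw : w < (subW ++ (relW ++ trivWords)).length,
      wordOf (D.words.get w) = (subW ++ (relW ++ trivWords))[w] := by
    intro w hw
    have hlen := congrArg List.length hwords.2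
    rw [List.length_map, List.length_range] at hlen
    refine ⟨hlen ▸ hw, ?_⟩
    simp only [← hwords.2, List.getElem_map, List.getElem_range]
  have hwh : ∀ w < D.nh, run s (wordOf (D.words.get w)) base = base := by
    intro w hw
    obtain ⟨hl, e⟩ := hget w (by omega)
    rw [e, List.getElem_append_left (by omega), hrun]
    show (((_ : K) • (1 : K) : K) : K ⧸ H) = ((1 : K) : K ⧸ H)
    rw [QuotientGroup.eq, smul_eq_mul, mul_one, mul_one, inv_inv]
    exact hsub _ (List.getElem_mem _)
  have hwr : ∀ w, D.nh ≤ w → w < D.nw → ∀ v, run s (wordOf (D.words.get w)) v = v := by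
    intro w hw hw' v
    obtain ⟨hl, e⟩ := hget w hw'
    rw [e, List.getElem_append_right (by omega), hrun]
    have hmem := List.getElem_mem (l := relW ++ trivWords) (n := w - subW.length)
      (by rw [List.length_append] at hl; omega)
    have h1 : (((relW ++ trivWords)[w - subW.length]'(by rw [List.length_append] at hl; omega)).map g).prod = 1 := by
      rcases List.mem_append.mp hmem with h | h
      · exact hrel _ h
      · obtain ⟨x, hx, e2⟩ := trivWords_ok _ h
        rw [e2]
        simp only [List.map_cons, List.map_nil, List.prod_cons, List.prod_nil, mul_one, hg.inv x hx, mul_inv_cancel]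
    rw [h1, inv_one, one_smul]
  have hh := hfacts Ω base s hinv hinj hk hwh hwr
  let P : ℕ → Ω := fun d => D.val base s (entry rep 64 20 d)
  let T : Set Ω := P '' Set.Iio n
  have hstep : ∀ x v, v ∈ T → (g x)⁻¹ • v ∈ T := by
    rintro x v ⟨d, hd, rfl⟩
    by_cases hx : x < 6
    · obtain ⟨d', hd', e⟩ := hrows Ω base s hinv hh d hd x hx
      exact ⟨d', hd', e.symm⟩
    · rw [hg.triv x (by omega), inv_one, one_smul]
      exact ⟨d, hd, rfl⟩
  have hstep' : ∀ x v, v ∈ T → g x • v ∈ T := by
    intro x v hv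
    by_cases hx : x < 7
    · have := hstep (iv x) v hv
      rwa [hg.inv x hx, inv_inv] at this
    · rwa [hg.triv x (by omega), one_smul]
  have hbT : base ∈ T := ⟨0, hn, by
    show D.val base s (entry rep 64 20 0) = base
    rw [hbase, CosetEnum.Data.val, if_pos rfl]⟩
  have hall : ∀ k : K, ∀ v ∈ T, k • v ∈ T ∧ k⁻¹ • v ∈ T := by
    intro k
    induction (hg.gen ▸ Subgroup.mem_top k : k ∈ Subgroup.closure (Set.range g)) using Subgroup.closure_induction with
    | mem x hx =>
      obtain ⟨i, rfl⟩ := hx
      exact fun v hv => ⟨hstep' i v hv, hstep i v hv⟩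
    | one => exact fun v hv => by simp [hv]
    | mul a b _ _ iha ihb =>
      exact fun v hv => ⟨by rw [mul_smul]; exact (iha _ (ihb v hv).1).1,
        by rw [_root_.mul_inv_rev, mul_smul]; exact (ihb _ (iha v hv).2).2⟩
    | inv a _ ih => exact fun v hv => ⟨(ih v hv).2, by rw [inv_inv]; exact (ih v hv).1⟩
  have huniv : (Set.univ : Set Ω) ⊆ T := by
    intro v _
    obtain ⟨k, rfl⟩ := QuotientGroup.mk_surjective v
    have := (hall k base hbT).1
    have e : k • base = ((k : K) : K ⧸ H) := by
      show (((k • (1 : K)) : K) : K ⧸ H) = ((k : K) : K ⧸ H)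
      rw [smul_eq_mul, mul_one]
    rwa [e] at this
  have hIio : (Set.Iio n).Finite := Set.finite_Iio n
  calc H.index = (Set.univ : Set Ω).ncard := by rw [Set.ncard_univ]; rfl
    _ ≤ T.ncard := Set.ncard_le_ncard huniv (hIio.image _)
    _ ≤ (Set.Iio n).ncard := Set.ncard_image_le hIio
    _ = n := by rw [← Finset.coe_Iio, Set.ncard_coe_finset, Nat.card_Iio]

end CfsgLib.J1Unique
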