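/-
Finite facts about the direct product of a group of order two and A5 used for the uniqueness of J1.
-/
import Cfsg.Agent.Lib.JankoOne.KFacts

set_option autoImplicit false

namespace CfsgLib.J1Unique

open CfsgLib.JankoOne

/-- The generator of order three. -/
def b0 : K := (1, ⟨Equiv.swap 1 4 * Equiv.swap 4 2, by rw [Equiv.Perm.mem_alternatingGroup]; decide +kernel⟩)

/-- The images of the first four letters. -/
def kg : ℕ → K
  | 0 => z0
  | 1 => v0
  | 2 => b0
  | _ => b0⁻¹

/-- Their codes. -/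
def kgC : ℕ → ℕ
  | 0 => 50824
  | 1 => 17601
  | 2 => enc b0
  | _ => enc b0⁻¹

theorem enc_kg : ∀ x, x < 4 → enc (kg x) = kgC x := by decide +kernel

/-- The value of a word in the first four letters. -/
def word (w : List ℕ) : K := (w.map kg).prod

/-- Its code. -/
def wordC (w : List ℕ) : ℕ := w.foldr (fun x acc => mulC (kgC x) acc) oneC

theorem enc_word : ∀ w : List ℕ, (∀ x ∈ w, x < 4) → enc (word w) = wordC w := by
  intro w
  induction w with
  | nil => exact fun _ => enc_one
  | cons x w ih =>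
    intro h
    rw [word, List.map_cons, List.prod_cons, enc_mul, enc_kg x (h x (List.mem_cons_self ..))]
    exact congrArg (mulC (kgC x)) (ih fun y hy => h y (List.mem_cons_of_mem x hy))

theorem word_eq {w : List ℕ} {k : K} (h : (w.all fun x => decide (x < 4)) = true ∧ wordC w = enc k) :
    word w = k := by
  rw [eq_iff, enc_word w fun x hx => of_decide_eq_true (List.all_eq_true.mp h.1 x hx), h.2]

/-- The elements of the four group centraliser in binary coordinates. -/
def el (n : ℕ) : K := z0 ^ (n % 2) * v0 ^ (n / 2 % 2) * v1 ^ (n / 4 % 2)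

/-- Their codes. -/
def elC : List ℕ := (List.range 8).map fun n => enc (el n)

theorem el_val : el 1 = z0 ∧ el 2 = v0 ∧ el 4 = v1 ∧ el 0 = 1 := by
  simp [el]

theorem el_xor : ∀ a, a < 8 → ∀ b, b < 8 → el a * el b = el (a ^^^ b) := by
  simp only [eq_iff, enc_mul]
  decide +kernel

theorem el_inj : ∀ a, a < 8 → ∀ b, b < 8 → el a = el b → a = b := by
  simp only [eq_iff]
  decide +kernel

theorem el_memC : ∀ n ∈ kList, (mulC n 17601 = mulC 17601 n ∧ mulC n (enc v1) = mulC (enc v1) n) ↔ n ∈ elC := by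
  decide +kernel

theorem exists_el {s : K} (h1 : s * v0 = v0 * s) (h2 : s * v1 = v1 * s) : ∃ n, n < 8 ∧ el n = s := by
  simp only [eq_iff, enc_mul, enc_v0] at h1 h2
  obtain ⟨n, hn, e⟩ := List.mem_map.mp ((el_memC _ (enc_mem s)).mp ⟨h1, h2⟩)
  exact ⟨n, List.mem_range.mp hn, enc_injective e⟩

theorem el_comm : ∀ n, n < 8 → el n * v0 = v0 * el n ∧ el n * v1 = v1 * el n := by
  simp only [eq_iff, enc_mul]
  decide +kernel

/-- The action of `c0`. -/
def rot (n : ℕ) : ℕ := [0, 1, 6, 7, 2, 3, 4, 5].getD n 0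

/-- The inverse action. -/
def rot' (n : ℕ) : ℕ := rot (rot n)

/-- The action of the element of order seven. -/
def m0 (n : ℕ) : ℕ := [0, 4, 5, 1, 2, 6, 7, 3].getD n 0

/-- The action of the outer automorphism. -/
def flip4 (n : ℕ) : ℕ := if n / 4 % 2 = 1 then n ^^^ 2 else n

theorem conj_c0 : ∀ n, n < 8 → c0⁻¹ * el n * c0 = el (rot n) ∧ c0 * el n * c0⁻¹ = el (rot' n) := by
  have hi : c0⁻¹ = c0 ^ 2 := inv_eq_of_mul_eq_one_right (by rw [← pow_succ', gens_props.1])
  simp only [hi, eq_iff, enc_mul, enc_pow]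
  decide +kernel

/-- The outer automorphism. -/
noncomputable def tau : K ≃* K :=
  MulEquiv.prodCongr (MulEquiv.refl _) (MulAut.conjNormal (Equiv.swap (0 : Fin 5) 1))

theorem tau_fst (k : K) : (tau k).1 = k.1 := rfl

theorem tau_snd (k : K) : ((tau k).2 : Equiv.Perm (Fin 5)) = Equiv.swap 0 1 * (k.2 : Equiv.Perm (Fin 5)) * (Equiv.swap 0 1)⁻¹ := rfl

/-- The code of the image under the outer automorphism. -/
def tauC (k : K) : ℕ :=
  enc (k.1, (⟨Equiv.swap 0 1 * (k.2 : Equiv.Perm (Fin 5)) * (Equiv.swap 0 1)⁻¹, by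
    rw [Equiv.Perm.mem_alternatingGroup, map_mul, map_mul, map_inv, mul_inv_cancel_comm]
    exact Equiv.Perm.mem_alternatingGroup.mp k.2.2⟩ : alternatingGroup (Fin 5)))

theorem enc_tau (k : K) : enc (tau k) = tauC k := rfl

theorem tau_el : ∀ n, n < 8 → tau (el n) = el (flip4 n) := by
  simp only [eq_iff, enc_tau]
  decide +kernel

theorem tau_c0 : tau c0 = c0⁻¹ := by
  simp only [eq_iff, enc_tau]
  decide +kernel

theorem normalizer_card : (kList.filter fun n => elC.contains (mulC (mulC n 17601) (powC n 29)) &&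
    elC.contains (mulC (mulC n (enc v1)) (powC n 29)) && elC.contains (mulC (mulC n zC) (powC n 29))).length = 24 := by
  decide +kernel

/-- A linear map of the binary coordinates given by the images of the basis. -/
def lin (x y u n : ℕ) : ℕ := (if n % 2 = 1 then x else 0) ^^^ (if n / 2 % 2 = 1 then y else 0) ^^^ (if n / 4 % 2 = 1 then u else 0)

/-- Two maps agree on the basis. -/
def agree (f g : ℕ → ℕ) : Bool := f 1 == g 1 && f 2 == g 2 && f 4 == g 4

/-- Composition powers. -/
def iter (f : ℕ → ℕ) : ℕ → ℕ → ℕ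
  | 0, n => n
  | k + 1, n => f (iter f k n)

/-- The check on one linear map. -/
def linOK (x y u : ℕ) : Bool :=
  !(agree (iter (lin x y u) 7) id && !(agree (lin x y u) id) &&
      (List.range 7).any (fun k => agree (fun n => rot (lin x y u (rot' n))) (iter (lin x y u) k))) ||
    (List.range 7).any (fun i => agree (iter (lin x y u) i) m0 ||
      agree (iter (lin x y u) i) (fun n => flip4 (m0 (flip4 n))))

theorem lin_ok : ((List.range 8).all fun x => (List.range 8).all fun y => (List.range 8).all fun u => linOK x y u) = true := by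
  decide +kernel

theorem lin_classify {x y u : ℕ} (hx : x < 8) (hy : y < 8) (hu : u < 8) (h1 : agree (iter (lin x y u) 7) id = true)
    (h2 : agree (lin x y u) id = false)
    (h3 : (List.range 7).any (fun k => agree (fun n => rot (lin x y u (rot' n))) (iter (lin x y u) k)) = true) :
    (List.range 7).any (fun i => agree (iter (lin x y u) i) m0 ||
      agree (iter (lin x y u) i) (fun n => flip4 (m0 (flip4 n)))) = true := by
  have h := List.all_eq_true.mp (List.all_eq_true.mp (List.all_eq_true.mp lin_ok x (List.mem_range.mpr hx)) y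
    (List.mem_range.mpr hy)) u (List.mem_range.mpr hu)
  simpa [linOK, h1, h2, h3] using h

theorem exponent_two : ∀ k, k < 7 → agree (fun n => rot (m0 (rot' n))) (iter m0 k) = true → k = 2 := by
  decide +kernel

theorem m0_trans : ∀ n, n < 8 → n ≠ 0 → ∃ i, i < 7 ∧ iter m0 i 1 = n := by decide +kernel

theorem cand_five : ∀ q ∈ [(enc (el 3), [1, 3, 1, 2], [1, 2, 1, 3]), (enc (el 4), [1, 2, 1, 2, 1], [2, 1, 2])],
    ∀ n ∈ kList, powC n 5 = oneC → n ≠ oneC → mulC (mulC (mulC q.1 n) q.1) n = oneC →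
      ∃ j, j < 5 ∧ (powC n j = wordC q.2.1 ∨ powC n j = wordC q.2.2) := by
  decide +kernel

theorem w_props : word [2, 1, 3, 1, 2, 1, 3] * word [2, 1, 3, 1, 2, 1, 3] = 1 ∧
    word [2, 1, 3, 1, 2, 1, 3] ≠ 1 ∧
    word [2, 1, 3, 1, 2, 1, 3] * c0 * word [2, 1, 3, 1, 2, 1, 3] = c0⁻¹ := by
  simp only [ne_eq, eq_iff, enc_mul, word, List.map_cons, List.map_nil, List.prod_cons, List.prod_nil]
  decide +kernel

theorem extra_inv : (b0 * v0 * b0⁻¹) * v0 ≠ v0 * (b0 * v0 * b0⁻¹) := by
  simp only [ne_eq, eq_iff, enc_mul]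
  decide +kernel

theorem kg_inv : b0 ^ 3 = 1 ∧ (v0 * b0) ^ 5 = 1 ∧ v0 * b0 ≠ 1 ∧ b0 ≠ 1 := by
  simp only [ne_eq, eq_iff, enc_mul, enc_pow]
  decide +kernel

end CfsgLib.J1Unique
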