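/-
An element of order seven in the normaliser of a Sylow 2-subgroup, in standard position.
-/
import Cfsg.Agent.Lib.J1Unique.Codes
import Cfsg.Agent.Lib.JankoOne.Structure

set_option autoImplicit false
set_option linter.unusedSectionVars false

namespace CfsgLib.J1Unique

open CfsgLib.JankoOne Subgroup

variable {G : Type*} [Group G] [Finite G] {t : G} {φ : K →* G}

/-- Conjugation by `σ` acts on the coordinates by `m`. -/
def Acts (φ : K →* G) (σ : G) (m : ℕ → ℕ) : Prop := ∀ n, n < 8 → m n < 8 ∧ σ⁻¹ * φ (el n) * σ = φ (el (m n))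

theorem acts_id : Acts φ 1 id := fun n hn => ⟨hn, by simp⟩

theorem Acts.mul {σ ρ : G} {m p : ℕ → ℕ} (h : Acts φ σ m) (h' : Acts φ ρ p) : Acts φ (σ * ρ) (p ∘ m) := by
  intro n hn
  refine ⟨(h' _ (h n hn).1).1, ?_⟩
  rw [Function.comp_apply, ← (h' _ (h n hn).1).2, ← (h n hn).2]
  group

theorem Acts.pow {σ : G} {m : ℕ → ℕ} (h : Acts φ σ m) : ∀ k, Acts φ (σ ^ k) (iter m k)
  | 0 => by rw [pow_zero]; exact acts_id
  | k + 1 => by
    rw [pow_succ]
    exact (h.pow k).mul h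

theorem acts_c0 : Acts φ (φ c0) rot ∧ Acts φ (φ c0)⁻¹ rot' := by
  have hlt : ∀ n, n < 8 → rot n < 8 ∧ rot' n < 8 := by decide
  refine ⟨fun n hn => ⟨(hlt n hn).1, ?_⟩, fun n hn => ⟨(hlt n hn).2, ?_⟩⟩
  · rw [← map_inv, ← map_mul, ← map_mul, (conj_c0 n hn).1]
  · rw [inv_inv, ← map_inv, ← map_mul, ← map_mul, (conj_c0 n hn).2]

theorem Acts.unique {σ : G} {m p : ℕ → ℕ} (h : Hyp t φ) (hm : Acts φ σ m) (hp : Acts φ σ p) {n : ℕ} (hn : n < 8) :
    m n = p n :=
  el_inj _ (hm n hn).1 _ (hp n hn).1 (h.inj ((hm n hn).2.symm.trans (hp n hn).2))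

theorem Acts.agree' {σ : G} {m p : ℕ → ℕ} (h : Hyp t φ) (hm : Acts φ σ m) (hp : Acts φ σ p) : agree m p = true := by
  simp [agree, hm.unique h hp (show 1 < 8 by omega), hm.unique h hp (show 2 < 8 by omega),
    hm.unique h hp (show 4 < 8 by omega)]

theorem Acts.linear {σ : G} {m : ℕ → ℕ} (h : Hyp t φ) (hm : Acts φ σ m) :
    Acts φ σ (lin (m 1) (m 2) (m 4)) := by
  obtain ⟨e1, e2, e4, e0⟩ := el_val
  obtain ⟨h1, k1⟩ := hm 1 (by omega)
  obtain ⟨h2, k2⟩ := hm 2 (by omega)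
  obtain ⟨h4, k4⟩ := hm 4 (by omega)
  have hcomb : ∀ a b c : ℕ, a < 8 → b < 8 → c < 8 → a ^^^ b ^^^ c < 8 := fun a b c ha hb hc =>
    Nat.xor_lt_two_pow (n := 3) (Nat.xor_lt_two_pow (n := 3) ha hb) hc
  intro n hn
  set a := (if n % 2 = 1 then m 1 else 0)
  set b := (if n / 2 % 2 = 1 then m 2 else 0)
  set c := (if n / 4 % 2 = 1 then m 4 else 0)
  have ha : a < 8 := by simp only [a]; split <;> omega
  have hb : b < 8 := by simp only [b]; split <;> omega
  have hc : c < 8 := by simp only [c]; split <;> omega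
  refine ⟨hcomb a b c ha hb hc, ?_⟩
  have hconj : ∀ (i j : ℕ) (w : K), el i = w → σ⁻¹ * φ w * σ = φ (el j) → ∀ e, e < 2 →
      σ⁻¹ * φ (w ^ e) * σ = φ (el (if e = 1 then j else 0)) := by
    intro i j w _ hw e he
    interval_cases e
    · simp [e0]
    · simpa using hw
  have A := hconj 1 (m 1) z0 e1 (e1 ▸ k1) (n % 2) (Nat.mod_lt _ (by omega))
  have B := hconj 2 (m 2) v0 e2 (e2 ▸ k2) (n / 2 % 2) (Nat.mod_lt _ (by omega))
  have C := hconj 4 (m 4) v1 e4 (e4 ▸ k4) (n / 4 % 2) (Nat.mod_lt _ (by omega))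
  calc σ⁻¹ * φ (el n) * σ = (σ⁻¹ * φ (z0 ^ (n % 2)) * σ) * (σ⁻¹ * φ (v0 ^ (n / 2 % 2)) * σ) *
      (σ⁻¹ * φ (v1 ^ (n / 4 % 2)) * σ) := by rw [el, map_mul, map_mul]; group
    _ = φ (el a) * φ (el b) * φ (el c) := by rw [A, B, C]
    _ = φ (el (a ^^^ b ^^^ c)) := by
      rw [← map_mul, ← map_mul, el_xor a ha b hb, el_xor _ (Nat.xor_lt_two_pow (n := 3) ha hb) c hc]

theorem el_mem_four {n : ℕ} (hn : n < 8) : el n ∈ fourCent := mem_fourCent.mpr (el_comm n hn)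

theorem acts_of_normalizer (h : Hyp t φ) {σ : G}
    (hσ : σ ∈ Subgroup.normalizer ((fourCent.map φ : Subgroup G) : Set G)) : ∃ m, Acts φ σ m := by
  have hex : ∀ n, n < 8 → ∃ j, j < 8 ∧ σ⁻¹ * φ (el n) * σ = φ (el j) := fun n hn => by
    obtain ⟨s, hs, e⟩ := (Subgroup.mem_normalizer_iff''.mp hσ (φ (el n))).mp ⟨el n, el_mem_four hn, rfl⟩
    obtain ⟨j, hj, hje⟩ := exists_el (mem_fourCent.mp hs).1 (mem_fourCent.mp hs).2
    exact ⟨j, hj, by rw [hje, e]⟩
  choose m hm using hex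
  exact ⟨fun n => if hn : n < 8 then m n hn else 0, fun n hn => by simpa [hn] using hm n hn⟩

theorem centraliser_no_seven (h : Hyp t φ) {σ : G} (h7 : σ ^ 7 = 1) (hc : σ * t = t * σ) : σ = 1 := by
  obtain ⟨k, rfl⟩ := (h.range σ).mp hc
  rw [← map_pow, ← map_one φ] at h7
  rw [eq_one_of_coprime_pows (pow_thirty k) (h.inj h7) (by norm_num), map_one]

theorem card_normalizer (h : Hyp t φ) :
    Nat.card (Subgroup.normalizer ((fourCent.map φ : Subgroup G) : Set G)) = 168 := by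
  classical
  haveI : Fact (Nat.Prime 2) := ⟨Nat.prime_two⟩
  obtain ⟨P, hP⟩ := h.exists_sylow
  haveI : IsMulCommutative (P : Subgroup G) := ⟨⟨fun a b => Subtype.ext (by
    obtain ⟨x, hx, ex⟩ := (hP ▸ a.2 : (a : G) ∈ fourCent.map φ)
    obtain ⟨y, hy, ey⟩ := (hP ▸ b.2 : (b : G) ∈ fourCent.map φ)
    obtain ⟨i, hi, rfl⟩ := exists_el (mem_fourCent.mp hx).1 (mem_fourCent.mp hx).2
    obtain ⟨j, hj, rfl⟩ := exists_el (mem_fourCent.mp hy).1 (mem_fourCent.mp hy).2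
    show (a : G) * (b : G) = (b : G) * (a : G)
    rw [← ex, ← ey, ← map_mul, ← map_mul, el_xor i hi j hj, el_xor j hj i hi, Nat.xor_comm])⟩⟩
  set N := Subgroup.normalizer ((fourCent.map φ : Subgroup G) : Set G)
  letI : MulAction N G := MulAction.compHom G ((ConjAct.toConjAct : G ≃* ConjAct G).toMonoidHom.comp N.subtype)
  have hsmul : ∀ (n : N) (x : G), n • x = (n : G) * x * (n : G)⁻¹ := fun n x => ConjAct.smul_def _ _
  have ht : φ (el 1) = t := by rw [el_val.1, h.image]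
  have horb : MulAction.orbit N t = Set.range (fun n : Fin 7 => φ (el ((n : ℕ) + 1))) := by
    refine Set.ext fun x => ⟨?_, ?_⟩
    · rintro ⟨n, rfl⟩
      obtain ⟨s, hs, e⟩ := (Subgroup.mem_normalizer_iff.mp n.2 t).mp ⟨el 1, el_mem_four (by omega), ht⟩
      obtain ⟨j, hj, rfl⟩ := exists_el (mem_fourCent.mp hs).1 (mem_fourCent.mp hs).2
      rcases Nat.eq_zero_or_pos j with rfl | hj0
      · rw [el_val.2.2.2, map_one, eq_comm, conj_eq_one_iff] at e
        exact absurd e h.t_ne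
      · exact ⟨⟨j - 1, by omega⟩, by
          show φ (el (j - 1 + 1)) = n • t
          rw [hsmul, ← e, show j - 1 + 1 = j by omega]⟩
    · rintro ⟨⟨j, hj⟩, rfl⟩
      have hne : φ (el (j + 1)) ≠ 1 := fun e => by
        have := el_inj (j + 1) (by omega) 0 (by omega) (h.inj (by rw [e, el_val.2.2.2, map_one]))
        omega
      have hsq : φ (el (j + 1)) * φ (el (j + 1)) = 1 := by
        rw [← map_mul, fourCent_sq (el_mem_four (by omega)), map_one]
      obtain ⟨g, hg⟩ := h.involution_conj hsq hne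
      have hPm : ∀ i, i < 8 → φ (el i) ∈ P := fun i hi => by
        show φ (el i) ∈ (P : Subgroup G)
        rw [hP]; exact ⟨_, el_mem_four hi, rfl⟩
      obtain ⟨n, hn, e⟩ := P.conj_eq_normalizer_conj_of_mem t g⁻¹ (by rw [← ht]; exact hPm 1 (by omega))
        (by rw [inv_inv, hg]; exact hPm _ (by omega))
      rw [inv_inv, hg] at e
      have hn' : n ∈ Subgroup.normalizer (((P : Subgroup G)) : Set G) := hn
      rw [hP] at hn'
      refine ⟨⟨n⁻¹, inv_mem hn'⟩, ?_⟩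
      show (⟨n⁻¹, _⟩ : N) • t = φ (el (j + 1))
      rw [hsmul, e, inv_inv]
  have hcard7 : Nat.card (MulAction.orbit N t) = 7 := by
    rw [horb, Nat.card_range_of_injective]
    · simp
    · intro a b e
      exact Fin.ext (by have := el_inj _ (by omega) _ (by omega) (h.inj e); omega)
  let p : K → Prop := fun k =>
    k * v0 * k⁻¹ ∈ fourCent ∧ k * v1 * k⁻¹ ∈ fourCent ∧ k * z0 * k⁻¹ ∈ fourCent
  have hstab : Nat.card (MulAction.stabilizer N t) = Nat.card {k : K // p k} := by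
    refine (Nat.card_congr (Equiv.ofBijective (fun k : {k : K // p k} =>
      (⟨⟨φ k, ?_⟩, ?_⟩ : MulAction.stabilizer N t)) ⟨?_, ?_⟩)).symm
    · refine Subgroup.mem_normalizer_fintype (S := ((fourCent.map φ : Subgroup G) : Set G)) fun x hx => ?_
      obtain ⟨s, hs, rfl⟩ := hx
      obtain ⟨i, hi, rfl⟩ := exists_el (mem_fourCent.mp hs).1 (mem_fourCent.mp hs).2
      refine ⟨k * el i * (k : K)⁻¹, ?_, by simp⟩
      obtain ⟨p1, p2, p3⟩ := k.2
      have hpow : ∀ (e : ℕ) (w : K), (k : K) * w * (k : K)⁻¹ ∈ fourCent → (k : K) * w ^ e * (k : K)⁻¹ ∈ fourCent :=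
        fun e w hw => by rw [← conj_pow]; exact pow_mem hw e
      have : (k : K) * el i * (k : K)⁻¹ = ((k : K) * z0 ^ (i % 2) * (k : K)⁻¹) *
          ((k : K) * v0 ^ (i / 2 % 2) * (k : K)⁻¹) * ((k : K) * v1 ^ (i / 4 % 2) * (k : K)⁻¹) := by
        rw [el]; group
      rw [this]
      exact mul_mem (mul_mem (hpow _ _ p3) (hpow _ _ p1)) (hpow _ _ p2)
    · rw [MulAction.mem_stabilizer_iff, hsmul, mul_inv_eq_iff_eq_mul]
      exact h.comm k
    · exact fun a b e => Subtype.ext (h.inj (congrArg (fun x => ((x.1 : N) : G)) e))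
    · rintro ⟨⟨x, hx⟩, hxt⟩
      rw [MulAction.mem_stabilizer_iff, hsmul, mul_inv_eq_iff_eq_mul] at hxt
      obtain ⟨k, rfl⟩ := (h.range x).mp hxt
      have hmem : ∀ s ∈ fourCent, k * s * k⁻¹ ∈ fourCent := fun s hs => by
        obtain ⟨s', hs', e⟩ := (Subgroup.mem_normalizer_iff.mp hx (φ s)).mp ⟨s, hs, rfl⟩
        rw [← map_inv, ← map_mul, ← map_mul] at e
        exact h.inj e ▸ hs'
      obtain ⟨e1, e2, e4, -⟩ := el_val
      exact ⟨⟨k, hmem _ (e2 ▸ el_mem_four (by omega)), hmem _ (e4 ▸ el_mem_four (by omega)),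
        hmem _ (e1 ▸ el_mem_four (by omega))⟩, rfl⟩
  have h24 : Nat.card {k : K // p k} = 24 := by
    rw [Nat.card_eq_fintype_card, Fintype.card_subtype, ← normalizer_card, ← card_filter_enc]
    refine congrArg Finset.card (Finset.filter_congr fun k _ => ?_)
    have hmem : ∀ s : K, s ∈ fourCent ↔ elC.contains (enc s) = true := fun s => by
      rw [mem_fourCent, List.contains_iff_mem, ← el_memC _ (enc_mem s)]
      simp [eq_iff, enc_mul, enc_v0]
    have hinv : k⁻¹ = k ^ 29 := inv_eq_of_mul_eq_one_right (by rw [← pow_succ', pow_thirty])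
    simp only [p, hmem, hinv, enc_mul, enc_pow, enc_v0, enc_z0, Bool.and_eq_true, and_assoc]
    rfl
  rw [← Nat.card_congr (MulAction.orbitProdStabilizerEquivGroup N t), Nat.card_prod, hcard7, hstab, h24]

/-- An element of order seven normalising the four group centraliser and normalised by `c0`. -/
theorem exists_sigma (h : Hyp t φ) :
    ∃ σ : G, σ ^ 7 = 1 ∧ σ ≠ 1 ∧ (∃ m, Acts φ σ m) ∧
      ∃ k, k < 7 ∧ (φ c0)⁻¹ * σ * φ c0 = σ ^ k := by
  classical
  haveI : Fact (Nat.Prime 7) := ⟨by norm_num⟩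
  haveI : Fact (Nat.Prime 3) := ⟨by norm_num⟩
  set N := Subgroup.normalizer ((fourCent.map φ : Subgroup G) : Set G) with hN
  have hcN : Nat.card N = 168 := card_normalizer h
  obtain ⟨P⟩ : Nonempty (Sylow 7 N) := inferInstance
  have hmult : ∀ {q : ℕ} (_ : Fact q.Prime) (Q : Sylow q N) (v w : ℕ), 168 = q ^ v * w → ¬ q ∣ w →
      Nat.card (Q : Subgroup N) = q ^ v := by
    intro q hq Q v w e hw
    refine Nat.dvd_antisymm ?_ (Q.pow_dvd_card_of_pow_dvd_card (hcN ▸ e ▸ dvd_mul_right _ _))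
    obtain ⟨u, hu⟩ := IsPGroup.iff_card.mp Q.2
    have hd : Nat.card (Q : Subgroup N) ∣ q ^ v * w := e ▸ hcN ▸ Subgroup.card_subgroup_dvd_card _
    exact ((Nat.Coprime.pow_left u ((Nat.Prime.coprime_iff_not_dvd hq.out).mpr hw))).dvd_of_dvd_mul_right
      (hu ▸ hd) |> (hu ▸ ·)
  have hP7 : Nat.card (P : Subgroup N) = 7 := hmult ⟨by norm_num⟩ P 1 24 (by norm_num) (by norm_num)
  obtain ⟨σ0, hσ0⟩ := exists_prime_orderOf_dvd_card' (G := (P : Subgroup N)) 7 (by rw [hP7])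
  have hσ7 : orderOf (σ0 : N) = 7 := by rw [Subgroup.orderOf_coe, hσ0]
  have hσG : orderOf ((σ0 : N) : G) = 7 := by rw [Subgroup.orderOf_coe, hσ7]
  have hgen : (P : Subgroup N) = Subgroup.zpowers (σ0 : N) :=
    (Subgroup.eq_of_le_of_card_ge (Subgroup.zpowers_le.mpr σ0.2) (by rw [hP7, Nat.card_zpowers, hσ7])).symm
  have hc : φ c0 ∈ N := by
    refine Subgroup.mem_normalizer_fintype (S := ((fourCent.map φ : Subgroup G) : Set G)) fun x hx => ?_
    obtain ⟨l, hl, rfl⟩ := hx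
    exact ⟨c0 * l * c0⁻¹, c0_four l hl, by simp⟩
  let c : N := ⟨φ c0, hc⟩
  have ht : t ∈ fourCent.map φ := ⟨el 1, el_mem_four (by omega), by rw [el_val.1, h.image]⟩
  have htN : t ∈ N := Subgroup.le_normalizer ht
  have hn7 : Nat.card (Sylow 7 N) = 8 := by
    have h1 := card_sylow_modEq_one 7 N
    have h2 := P.card_dvd_index
    have h3 : (P : Subgroup N).index = 24 := by
      have := (P : Subgroup N).card_mul_index
      rw [hP7, hcN] at this
      omega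
    rw [h3] at h2
    have h4 : Nat.card (Sylow 7 N) ∈ Nat.divisors 24 := Nat.mem_divisors.mpr ⟨h2, by norm_num⟩
    have key : ∀ d ∈ Nat.divisors 24, d % 7 = 1 % 7 → d = 1 ∨ d = 8 := by decide +kernel
    rcases key _ h4 h1 with e | e
    · exfalso
      haveI : Subsingleton (Sylow 7 N) := (Nat.card_eq_one_iff_unique.mp e).1
      haveI := P.normal_of_subsingleton
      set σg : G := ((σ0 : N) : G)
      have hmem : σg⁻¹ * t * σg * t ∈ fourCent.map φ :=
        mul_mem ((Subgroup.mem_normalizer_iff''.mp (σ0 : N).2 t).mp ht) ht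
      have hmem2 : (σ0 : N)⁻¹ * ((⟨t, htN⟩ : N) * (σ0 : N) * (⟨t, htN⟩ : N)⁻¹) ∈ (P : Subgroup N) :=
        mul_mem (inv_mem σ0.2) (Subgroup.Normal.conj_mem inferInstance _ σ0.2 _)
      obtain ⟨l, hl, hle⟩ := hmem
      have ht' : t⁻¹ = t := inv_eq_of_mul_eq_one_right h.t_sq
      have h2 : (σg⁻¹ * t * σg * t) ^ 2 = 1 := by rw [← hle, ← map_pow, sq, fourCent_sq hl, map_one]
      have h7' : (σg⁻¹ * t * σg * t) ^ 7 = 1 := by
        have hd : orderOf (⟨_, hmem2⟩ : (P : Subgroup N)) ∣ 7 := by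
          exact (_root_.orderOf_dvd_natCard _).trans (dvd_of_eq hP7)
        have e7 := congrArg (fun x : (P : Subgroup N) => ((x : N) : G)) (orderOf_dvd_iff_pow_eq_one.mp hd)
        simp only [SubmonoidClass.coe_pow, OneMemClass.coe_one, Subgroup.coe_mul, Subgroup.coe_inv, ht'] at e7
        rwa [mul_assoc σg⁻¹ t, mul_assoc σg⁻¹]
      have hl1 := mul_eq_one_iff_eq_inv.mp (eq_one_of_coprime_pows h2 h7' (by norm_num))
      rw [ht'] at hl1
      have hg1 := centraliser_no_seven h (σ := σg) (by rw [← hσG]; exact pow_orderOf_eq_one σg) (by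
        calc σg * t = σg * (σg⁻¹ * t * σg) := by rw [hl1]
          _ = t * σg := by group)
      rw [hg1, orderOf_one] at hσG
      norm_num at hσG
    · exact e
  have hnorm21 : Nat.card (Subgroup.normalizer ((P : Subgroup N) : Set N)) = 21 := by
    have := (Subgroup.normalizer ((P : Subgroup N) : Set N)).card_mul_index
    rw [show (Subgroup.normalizer ((P : Subgroup N) : Set N)).index = 8 from
      (Sylow.card_eq_index_normalizer P).symm.trans hn7, hcN] at this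
    omega
  obtain ⟨y, hy⟩ := exists_prime_orderOf_dvd_card' (G := Subgroup.normalizer ((P : Subgroup N) : Set N)) 3
    (by rw [hnorm21]; norm_num)
  have hy3 : orderOf (y : N) = 3 := by rw [Subgroup.orderOf_coe, hy]
  have hc3 : orderOf c = 3 := by
    rw [Subgroup.orderOf_mk, orderOf_injective φ h.inj]
    exact orderOf_eq_prime gens_props.1 gens_props.2.1
  have hsyl : ∀ u : N, orderOf u = 3 → ∃ Q : Sylow 3 N, (Q : Subgroup N) = Subgroup.zpowers u := by
    intro u hu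
    obtain ⟨Q, hQ⟩ := (IsPGroup.of_card (n := 1) (by rw [Nat.card_zpowers, hu, pow_one]) :
      IsPGroup 3 (Subgroup.zpowers u)).exists_le_sylow
    exact ⟨Q, (Subgroup.eq_of_le_of_card_ge hQ
      (by rw [Nat.card_zpowers, hu, hmult ⟨by norm_num⟩ Q 1 56 (by norm_num) (by norm_num)]; norm_num)).symm⟩
  obtain ⟨Q, hQ⟩ := hsyl _ hy3
  obtain ⟨R, hR⟩ := hsyl _ hc3
  obtain ⟨g, hg⟩ := MulAction.exists_smul_eq N Q R
  have hcR : c ∈ (R : Subgroup N) := hR ▸ Subgroup.mem_zpowers c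
  rw [← hg, Sylow.coe_subgroup_smul, hQ] at hcR
  obtain ⟨z, ⟨j, hj⟩, hzc⟩ := Subgroup.mem_map.mp hcR
  have hjN : (y : N) ^ j ∈ Subgroup.normalizer ((P : Subgroup N) : Set N) := zpow_mem y.2 j
  obtain ⟨i, hi⟩ : ((y : N) ^ j)⁻¹ * (σ0 : N) * (y : N) ^ j ∈ Subgroup.zpowers (σ0 : N) :=
    hgen ▸ (Subgroup.mem_normalizer_iff''.mp hjN (σ0 : N)).mp σ0.2
  obtain ⟨k, hk, hk'⟩ : ∃ k, k < 7 ∧ (σ0 : N) ^ k = (σ0 : N) ^ i := by
    refine ⟨(i % 7).toNat, by omega, ?_⟩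
    rw [← zpow_natCast, Int.toNat_of_nonneg (Int.emod_nonneg i (by norm_num))]
    exact (zpow_mod_orderOf (σ0 : N) i).symm.trans (by rw [hσ7]; rfl) |>.symm
  have hc' : c = g * (y : N) ^ j * g⁻¹ := by rw [← hzc, ← hj]; rfl
  let s : N := g * (σ0 : N) * g⁻¹
  have hconj : c⁻¹ * s * c = s ^ k := by
    simp only [s, conj_pow, hc', hk']
    rw [show (σ0 : N) ^ i = ((y : N) ^ j)⁻¹ * (σ0 : N) * (y : N) ^ j from hi]
    group
  have hsord : orderOf (s : G) = 7 := by rw [Subgroup.orderOf_coe, CfsgLib.Involutions.orderOf_conj, hσ7]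
  refine ⟨s, hsord ▸ pow_orderOf_eq_one _, fun e => by simp [e] at hsord, acts_of_normalizer h s.2, k, hk, ?_⟩
  exact congrArg Subtype.val hconj

/-- The outer twist of the parametrisation. -/
theorem twist (h : Hyp t φ) : Hyp t (φ.comp tau.toMonoidHom) where
  inj := h.inj.comp tau.injective
  range x := (h.range x).trans ⟨fun ⟨k, hk⟩ => ⟨tau.symm k, by simp [hk]⟩, fun ⟨k, hk⟩ => ⟨tau k, by simpa using hk⟩⟩
  image := by
    show φ (tau z0) = t
    rw [← el_val.1, tau_el 1 (by omega), show flip4 1 = 1 by decide, el_val.1, h.image]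
  noIndexTwo := h.noIndexTwo
  two := h.two
  sylow := h.sylow

/-- The standard position. -/
theorem exists_frame (h : Hyp t φ) :
    ∃ (ψ : K →* G) (σ : G), Hyp t ψ ∧ σ ^ 7 = 1 ∧ Acts ψ σ m0 ∧ (ψ c0)⁻¹ * σ * ψ c0 = σ ^ 2 := by
  obtain ⟨σ, h7, h1, ⟨m, hm⟩, k, hk, hconj⟩ := exists_sigma h
  have hl := hm.linear h
  set L := lin (m 1) (m 2) (m 4)
  have c1 : agree (iter L 7) id = true := by
    have := hl.pow 7
    rw [h7] at this
    exact this.agree' h acts_id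
  have c2 : agree L id = false := by
    rw [Bool.eq_false_iff]
    intro he
    simp only [agree, Bool.and_eq_true, beq_iff_eq, id_eq] at he
    refine h1 (centraliser_no_seven h h7 ?_)
    have e := (hl 1 (by omega)).2
    rw [he.1.1, el_val.1, h.image] at e
    calc σ * t = σ * (σ⁻¹ * t * σ) := by rw [e]
      _ = t * σ := by group
  have c3 : (List.range 7).any (fun k => agree (fun n => rot (L (rot' n))) (iter L k)) = true := by
    refine List.any_eq_true.mpr ⟨k, List.mem_range.mpr hk, ?_⟩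
    have := ((acts_c0 (φ := φ)).2.mul hl).mul (acts_c0 (φ := φ)).1
    rw [hconj] at this
    exact this.agree' h (hl.pow k)
  obtain ⟨i, hi, hor⟩ := List.any_eq_true.mp
    (lin_classify (hm 1 (by omega)).1 (hm 2 (by omega)).1 (hm 4 (by omega)).1 c1 c2 c3)
  have hfix : ∀ {p q : ℕ → ℕ} {ρ : G}, Acts φ ρ p → agree p q = true → (∀ n, n < 8 → q n < 8) →
      (∀ n, n < 8 → lin (q 1) (q 2) (q 4) n = q n) → Acts φ ρ q := by
    intro p q ρ hp ha hq hqlin n hn
    simp only [agree, Bool.and_eq_true, beq_iff_eq] at ha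
    have := hp.linear h n hn
    rw [ha.1.1, ha.1.2, ha.2, hqlin n hn] at this
    exact this
  have hexp : ∀ {ψ : K →* G}, Hyp t ψ → Acts ψ (σ ^ i) m0 →
      (∃ e : ℕ, (ψ c0)⁻¹ * σ * ψ c0 = σ ^ e) → (ψ c0)⁻¹ * σ ^ i * ψ c0 = (σ ^ i) ^ 2 := by
    intro ψ hψ hA ⟨e, he⟩
    have hpow : (ψ c0)⁻¹ * σ ^ i * ψ c0 = (σ ^ i) ^ (e % 7) := by
      calc (ψ c0)⁻¹ * σ ^ i * ψ c0 = ((ψ c0)⁻¹ * σ * ψ c0) ^ i := by
            rw [show (ψ c0)⁻¹ * σ * ψ c0 = (ψ c0)⁻¹ * σ * ((ψ c0)⁻¹)⁻¹ by rw [inv_inv], conj_pow, inv_inv]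
        _ = (σ ^ i) ^ e := by rw [he, ← pow_mul, ← pow_mul, mul_comm]
        _ = (σ ^ i) ^ (e % 7) := pow_eq_pow_mod e (by rw [← pow_mul, mul_comm, pow_mul, h7, one_pow])
    have := ((acts_c0 (φ := ψ)).2.mul hA).mul (acts_c0 (φ := ψ)).1
    rw [hpow] at this
    rw [hpow, exponent_two (e % 7) (Nat.mod_lt _ (by omega)) (this.agree' hψ (hA.pow _))]
  have h7i : (σ ^ i) ^ 7 = 1 := by rw [← pow_mul, mul_comm, pow_mul, h7, one_pow]
  rcases (Bool.or_eq_true _ _).mp hor with ha | ha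
  · have hA := hfix (hl.pow i) ha (by decide) (by decide)
    exact ⟨φ, σ ^ i, h, h7i, hA, hexp h hA ⟨k, hconj⟩⟩
  · have hA := hfix (hl.pow i) ha (by decide) (by decide)
    have hA' : Acts (φ.comp tau.toMonoidHom) (σ ^ i) m0 := by
      intro n hn
      have hf : ∀ n, n < 8 → flip4 n < 8 ∧ m0 n < 8 ∧ flip4 (flip4 n) = n := by decide
      refine ⟨(hf n hn).2.1, ?_⟩
      show (σ ^ i)⁻¹ * φ (tau (el n)) * σ ^ i = φ (tau (el (m0 n)))
      rw [tau_el n hn, tau_el _ (hf n hn).2.1, (hA _ (hf n hn).1).2]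
      show φ (el (flip4 (m0 (flip4 (flip4 n))))) = _
      rw [(hf n hn).2.2]
    have hτ : (φ.comp tau.toMonoidHom) c0 = (φ c0)⁻¹ := by
      show φ (tau c0) = _
      rw [tau_c0, map_inv]
    refine ⟨φ.comp tau.toMonoidHom, σ ^ i, twist h, h7i, hA', hexp (twist h) hA' ⟨k * k, ?_⟩⟩
    rw [hτ, inv_inv]
    have h3 : φ c0 ^ 3 = 1 := by rw [← map_pow, gens_props.1, map_one]
    have hi2 : φ c0 = (φ c0)⁻¹ * (φ c0)⁻¹ := by
      rw [← mul_inv_rev, eq_inv_iff_mul_eq_one, ← mul_assoc, ← pow_three', h3]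
    calc φ c0 * σ * (φ c0)⁻¹ = ((φ c0)⁻¹ * (φ c0)⁻¹) * σ * ((φ c0)⁻¹ * (φ c0)⁻¹)⁻¹ := by rw [← hi2]
      _ = (φ c0)⁻¹ * ((φ c0)⁻¹ * σ * φ c0) * φ c0 := by simp only [mul_inv_rev, inv_inv, mul_assoc]
      _ = ((φ c0)⁻¹ * σ * φ c0) ^ k := by
          rw [hconj]
          conv_rhs => rw [← hconj, show (φ c0)⁻¹ * σ * φ c0 = (φ c0)⁻¹ * σ * ((φ c0)⁻¹)⁻¹ by rw [inv_inv]]
          rw [conj_pow, inv_inv]
      _ = σ ^ (k * k) := by rw [hconj, ← pow_mul]

end CfsgLib.J1Unique
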