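/-
An element of order five in the centraliser of the distinguished element of order three.
-/
import Cfsg.Agent.Lib.J1Unique.Frame

set_option autoImplicit false
set_option linter.unusedSectionVars false

namespace CfsgLib.J1Unique

open CfsgLib.JankoOne Subgroup

variable {G : Type*} [Group G] [Finite G] {t : G} {φ : K →* G}

/-- The involution inverting `c0`. -/
def wInv : K := word [2, 1, 3, 1, 2, 1, 3]

theorem cfg_c0 (h : Hyp t φ) : Cfg 3 (φ c0) t (φ wInv) where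
  pr := Or.inl rfl
  ord := by
    haveI : Fact (Nat.Prime 3) := ⟨by norm_num⟩
    rw [orderOf_injective φ h.inj]
    exact orderOf_eq_prime gens_props.1 gens_props.2.1
  s2 := h.t_sq
  s1 := h.t_ne
  u2 := by rw [← map_mul]; exact (congrArg φ w_props.1).trans (map_one φ)
  u1 := fun e => w_props.2.1 (h.inj (e.trans (map_one φ).symm))
  su := h.comm _
  xs := h.comm _
  xu := by rw [← map_mul, ← map_mul, ← map_inv]; exact congrArg φ w_props.2.2

theorem exists_five (h : Hyp t φ) (h15 : ∃ d : G, orderOf d = 15) :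
    ∃ f : G, f ^ 5 = 1 ∧ f ≠ 1 ∧ f * φ c0 = φ c0 * f ∧ t * f * t = f⁻¹ ∧
      (f * φ wInv = φ wInv * f ∨ f * (t * φ wInv) = t * φ wInv * f) := by
  have c := cfg_c0 h
  haveI : Fact (Nat.Prime 5) := ⟨by norm_num⟩
  obtain ⟨d, hd⟩ := exists_prime_orderOf_dvd_card' (G := Oc (φ c0)) 5
    (by rw [(h.Oc_fifteen c).1 h15]; norm_num)
  have hd5 : orderOf (d : G) = 5 := by rw [Subgroup.orderOf_coe, hd]
  obtain ⟨i, a, b, hi, ha, hb, e⟩ := h.span c d.2
  have hmain : ∀ {u : G}, Cfg 3 (φ c0) t u → ∀ z, z ∈ Au (φ c0) u → z ≠ 1 →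
      z ^ 5 = 1 ∧ z * φ c0 = φ c0 * z ∧ t * z * t = z⁻¹ ∧ z * u = u * z := by
    intro u cu z hz hz1
    have ho := (h.Au_prime cu hz hz1).1
    have ho5 : orderOf z = 5 := by omega
    exact ⟨orderOf_dvd_iff_pow_eq_one.mp (dvd_of_eq ho5), ((h.mem_Oc cu).mp (mem_Au.mp hz).1).1, h.Au_inverted cu hz, (mem_Au.mp hz).2⟩
  by_cases ha1 : a = 1
  · by_cases hb1 : b = 1
    · exfalso
      rw [ha1, hb1, mul_one, mul_one] at e
      have h3' : φ c0 ^ 3 = 1 := by rw [← map_pow, gens_props.1, map_one]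
      have h3 : (d : G) ^ 3 = 1 := by rw [e]; exact pow_zpowers_eq_one h3' hi
      have h5 : (d : G) ^ 5 = 1 := orderOf_dvd_iff_pow_eq_one.mp (dvd_of_eq hd5)
      rw [eq_one_of_coprime_pows h3 h5 (by norm_num), orderOf_one] at hd5
      norm_num at hd5
    · obtain ⟨q1, q2, q3, q4⟩ := hmain c.third b hb hb1
      exact ⟨b, q1, hb1, q2, q3, Or.inr q4⟩
  · obtain ⟨q1, q2, q3, q4⟩ := hmain c a ha ha1
    exact ⟨a, q1, ha1, q2, q3, Or.inl q4⟩

theorem five_candidates (h : Hyp t φ) {f u γ : G} {q : K} {cT cF : List ℕ} (hf5 : f ^ 5 = 1) (hf1 : f ≠ 1)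
    (hfr : f * φ c0 = φ c0 * f) (hft : t * f * t = f⁻¹) (hfu : f * u = u * f) (hu : γ * u * γ⁻¹ = t)
    (hq : γ * t * γ⁻¹ = φ q)
    (hmem : (enc q, cT, cF) ∈ [(enc (el 3), [1, 3, 1, 2], [1, 2, 1, 3]), (enc (el 4), [1, 2, 1, 2, 1], [2, 1, 2])])
    (hlt : ∀ x ∈ cT ++ cF, x < 4) :
    Commute (φ c0) (γ⁻¹ * φ (word cT) * γ) ∨ Commute (φ c0) (γ⁻¹ * φ (word cF) * γ) := by
  obtain ⟨k, hk⟩ := (h.range (γ * f * γ⁻¹)).mp (by rw [← hu, conj_mul, conj_mul, hfu])
  have hk5 : k ^ 5 = 1 := h.inj (by rw [map_pow, hk, conj_pow, hf5, map_one, mul_one, mul_inv_cancel])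
  have hk1 : k ≠ 1 := fun e => hf1 (by rwa [e, map_one, eq_comm, conj_eq_one_iff] at hk)
  have hinv : q * k * q * k = 1 := h.inj (by
    rw [map_mul, map_mul, map_mul, hk, map_one, ← hq]
    calc γ * t * γ⁻¹ * (γ * f * γ⁻¹) * (γ * t * γ⁻¹) * (γ * f * γ⁻¹) = γ * (t * f * t * f) * γ⁻¹ := by group
      _ = 1 := by rw [hft, inv_mul_cancel, mul_one, mul_inv_cancel])
  obtain ⟨j, -, hj⟩ := cand_five _ hmem _ (enc_mem k) (by rw [← enc_pow, hk5, enc_one])
    (fun e => hk1 (enc_injective (e.trans enc_one.symm))) (by simp only [← enc_mul]; rw [hinv, enc_one])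
  have hback : γ⁻¹ * φ (k ^ j) * γ = f ^ j := by rw [map_pow, hk, conj_pow]; group
  have hcom : Commute (φ c0) (f ^ j) := (show Commute (φ c0) f from hfr.symm).pow_right j
  rw [← hback] at hcom
  rcases hj with e | e
  · left
    rwa [show word cT = k ^ j from enc_injective (by
      rw [enc_pow, enc_word cT fun x hx => hlt x (List.mem_append_left _ hx), e])]
  · right
    rwa [show word cF = k ^ j from enc_injective (by
      rw [enc_pow, enc_word cF fun x hx => hlt x (List.mem_append_right _ hx), e])]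

end CfsgLib.J1Unique
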