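/-
Generators of a group with such an involution centraliser satisfying the relations of J1.
-/
import Cfsg.Agent.Lib.J1Unique.Five
import Cfsg.Agent.Lib.J1Unique.Index
import Cfsg.Agent.Lib.J1Unique.CertT.Main
import Cfsg.Agent.Lib.J1Unique.CertA.Main
import Cfsg.Agent.Lib.J1Unique.CertB.Main
import Cfsg.Agent.Lib.J1Unique.CertC.Main
import Cfsg.Agent.Lib.SmallSimple.EightSubgroups

set_option autoImplicit false
set_option linter.unusedSectionVars false

namespace CfsgLib.J1Unique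

open CfsgLib.JankoOne Subgroup

variable {G : Type*} [Group G] [Finite G] {t : G} {φ : K →* G} {σ : G}

/-- The letters. -/
def gfun (φ : K →* G) (σ : G) : ℕ → G
  | 0 => φ z0
  | 1 => φ v0
  | 2 => φ b0
  | 3 => φ b0⁻¹
  | 4 => σ
  | 5 => σ⁻¹
  | _ => 1

/-- The value of a word. -/
def val (φ : K →* G) (σ : G) (w : List ℕ) : G := (w.map (gfun φ σ)).prod

theorem val_append (u v : List ℕ) : val φ σ (u ++ v) = val φ σ u * val φ σ v := by
  simp [val]

theorem val_word : ∀ w : List ℕ, (∀ x ∈ w, x < 4) → val φ σ w = φ (word w) := by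
  intro w
  induction w with
  | nil => simp [val, word]
  | cons x w ih =>
    intro h
    have hx : x < 4 := h x (List.mem_cons_self ..)
    have e : gfun φ σ x = φ (kg x) := by interval_cases x <;> rfl
    have := ih fun y hy => h y (List.mem_cons_of_mem x hy)
    simp only [val, word, List.map_cons, List.prod_cons, map_mul] at this ⊢
    rw [e, this]

theorem val_eq {w : List ℕ} {k : K} (h : (w.all fun x => decide (x < 4)) = true ∧ wordC w = enc k) :
    val φ σ w = φ k := by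
  rw [val_word w fun x hx => of_decide_eq_true (List.all_eq_true.mp h.1 x hx), word_eq h]

theorem val_four : val φ σ [4] = σ ∧ val φ σ [5] = σ⁻¹ := by simp [val, gfun]

theorem gfun_inv (h : Hyp t φ) : ∀ x, x < 7 → gfun φ σ (iv x) = (gfun φ σ x)⁻¹ := by
  have hiv : iv 0 = 0 ∧ iv 1 = 1 ∧ iv 2 = 3 ∧ iv 3 = 2 ∧ iv 4 = 5 ∧ iv 5 = 4 ∧ iv 6 = 6 := by decide +kernel
  obtain ⟨e0, e1, e2, e3, e4, e5, e6⟩ := hiv
  intro x hx
  interval_cases x
  · rw [e0]; exact (inv_eq_of_mul_eq_one_right (by show φ z0 * φ z0 = 1; rw [← map_mul, z0_sq.1, map_one])).symm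
  · rw [e1]; exact (inv_eq_of_mul_eq_one_right (by
      show φ v0 * φ v0 = 1; rw [← map_mul, gens_props.2.2.2.2.1, map_one])).symm
  · rw [e2]; exact map_inv φ b0
  · rw [e3]; show φ b0 = (φ b0⁻¹)⁻¹; rw [map_inv, inv_inv]
  · rw [e4]; rfl
  · rw [e5]; exact (inv_inv σ).symm
  · rw [e6]; exact inv_one.symm

theorem gfun_triv : ∀ x, 6 ≤ x → gfun φ σ x = 1
  | 0, h => absurd h (by omega)
  | 1, h => absurd h (by omega)
  | 2, h => absurd h (by omega)
  | 3, h => absurd h (by omega)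
  | 4, h => absurd h (by omega)
  | 5, h => absurd h (by omega)
  | _ + 6, _ => rfl

/-- The relations common to all cases. -/
def baseRels : List (List ℕ) :=
  [[0, 0], [1, 1], [2, 2, 2], [1, 2, 1, 2, 1, 2, 1, 2, 1, 2], [0, 1, 0, 1], [0, 2, 0, 3], [4, 4, 4, 4, 4, 4, 4],
    [5, 0, 4, 3, 1, 2, 1, 3, 1, 2, 1, 3, 1], [5, 1, 4, 3, 1, 2, 1, 3, 1, 2, 1, 3, 1, 0],
    [5, 2, 1, 3, 1, 2, 1, 3, 1, 2, 4, 3, 1, 2, 1, 3, 1, 2, 1, 3, 0],
    [1, 2, 1, 3, 1, 3, 4, 2, 1, 2, 1, 3, 1, 5, 5]]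

theorem base_rels (h : Hyp t φ) (h7 : σ ^ 7 = 1) (hA : Acts φ σ m0) (hr : (φ c0)⁻¹ * σ * φ c0 = σ ^ 2) :
    ∀ w ∈ baseRels, val φ σ w = 1 := by
  obtain ⟨e4, e5⟩ := val_four (φ := φ) (σ := σ)
  have hconj : ∀ (i : ℕ) (u v : List ℕ), i < 8 → (u.all fun x => decide (x < 4)) = true ∧ wordC u = enc (el i) →
      (v.all fun x => decide (x < 4)) = true ∧ wordC v = enc (el (m0 i)) →
      val φ σ ([5] ++ (u ++ ([4] ++ v))) = 1 := by
    intro i u v hi hu hv
    rw [val_append, val_append, val_append, e4, e5, val_eq hu, val_eq hv, ← mul_assoc, ← mul_assoc, (hA i hi).2,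
      ← map_mul, fourCent_sq (el_mem_four (hA i hi).1), map_one]
  have hk : ∀ w : List ℕ, (w.all fun x => decide (x < 4)) = true ∧ wordC w = enc 1 → val φ σ w = 1 :=
    fun w hw => (val_eq hw).trans (map_one φ)
  intro w hw
  simp only [baseRels, List.mem_cons, List.not_mem_nil, or_false] at hw
  rcases hw with rfl | rfl | rfl | rfl | rfl | rfl | rfl | rfl | rfl | rfl | rfl
  · exact hk _ (by decide +kernel)
  · exact hk _ (by decide +kernel)
  · exact hk _ (by decide +kernel)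
  · exact hk _ (by decide +kernel)
  · exact hk _ (by decide +kernel)
  · exact hk _ (by decide +kernel)
  · rw [← h7]; simp [val, gfun, pow_succ, mul_assoc]
  · exact hconj 1 [0] [3, 1, 2, 1, 3, 1, 2, 1, 3, 1] (by omega) (by decide +kernel) (by decide +kernel)
  · exact hconj 2 [1] [3, 1, 2, 1, 3, 1, 2, 1, 3, 1, 0] (by omega) (by decide +kernel) (by decide +kernel)
  · exact hconj 6 [2, 1, 3, 1, 2, 1, 3, 1, 2] [3, 1, 2, 1, 3, 1, 2, 1, 3, 0] (by omega) (by decide +kernel)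
      (by decide +kernel)
  · show val φ σ ([1, 2, 1, 3, 1, 3] ++ ([4] ++ ([2, 1, 2, 1, 3, 1] ++ ([5] ++ [5])))) = 1
    rw [val_append, val_append, val_append, val_append, e4, e5, val_eq (k := c0⁻¹) (by decide +kernel),
      val_eq (k := c0) (by decide +kernel), ← mul_assoc, ← mul_assoc, map_inv, hr, pow_two]
    group

/-- The commutation relation of `c0` with the conjugate of `c` by `γ`. -/
def extra (gw gwi c ci : List ℕ) : List ℕ :=
  [1, 2, 1, 3, 1, 3] ++ (gwi ++ (ci ++ (gw ++ ([2, 1, 2, 1, 3, 1] ++ (gwi ++ (c ++ gw))))))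

theorem extra_rel {gw gwi c ci : List ℕ} (hg : val φ σ gwi = (val φ σ gw)⁻¹)
    (hci : val φ σ ci = (φ (word c))⁻¹) (hc : ∀ x ∈ c, x < 4)
    (hcom : Commute (φ c0) ((val φ σ gw)⁻¹ * φ (word c) * val φ σ gw)) :
    val φ σ (extra gw gwi c ci) = 1 := by
  simp only [extra, val_append, hg, hci, val_word c hc, val_eq (k := c0⁻¹) (w := [1, 2, 1, 3, 1, 3]) (by decide +kernel),
    val_eq (k := c0) (w := [2, 1, 2, 1, 3, 1]) (by decide +kernel), map_inv]
  set γ := val φ σ gw
  set d := γ⁻¹ * φ (word c) * γ with hd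
  calc (φ c0)⁻¹ * (γ⁻¹ * ((φ (word c))⁻¹ * (γ * (φ c0 * (γ⁻¹ * (φ (word c) * γ))))))
      = (φ c0)⁻¹ * d⁻¹ * (φ c0 * d) := by rw [hd]; group
    _ = 1 := by rw [hcom.eq]; group

theorem frame_values (h : Hyp t φ) (hA : Acts φ σ m0) : σ⁻¹ * t * σ = φ v1 ∧ σ⁻¹ * φ (el 3) * σ = t := by
  obtain ⟨e1, -, e4, -⟩ := el_val
  constructor
  · rw [← h.image, ← e1, (hA 1 (by omega)).2, show m0 1 = 4 by decide, e4]
  · rw [(hA 3 (by omega)).2, show m0 3 = 1 by decide, e1, h.image]

theorem words_T :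
    ([2, 1, 2, 1, 3, 1, 2, 1, 3, 1, 3].all fun x => decide (x < 4)) = true ∧
      wordC [2, 1, 2, 1, 3, 1, 2, 1, 3, 1, 3] = enc v1 ∧
      ([2, 1, 3, 0, 2, 1, 3, 1, 2, 1, 3, 2, 1, 3].all fun x => decide (x < 4)) = true ∧
      wordC [2, 1, 3, 0, 2, 1, 3, 1, 2, 1, 3, 2, 1, 3] = enc (el 3) := by
  decide +kernel

theorem exists_extra (h : Hyp t φ) (h15 : ∃ d : G, orderOf d = 15) (hA : Acts φ σ m0) :
    val φ σ (extra [4, 2, 1] [1, 3, 5] [1, 3, 1, 2] [3, 1, 2, 1]) = 1 ∨
    val φ σ (extra [4, 2, 1] [1, 3, 5] [1, 2, 1, 3] [2, 1, 3, 1]) = 1 ∨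
    val φ σ (extra [5, 2, 1, 3] [2, 1, 3, 4] [1, 2, 1, 2, 1] [1, 3, 1, 3, 1]) = 1 ∨
    val φ σ (extra [5, 2, 1, 3] [2, 1, 3, 4] [2, 1, 2] [3, 1, 3]) = 1 := by
  obtain ⟨f, hf5, hf1, hfr, hft, hf⟩ := exists_five h h15
  obtain ⟨e4, e5⟩ := val_four (φ := φ) (σ := σ)
  obtain ⟨hv1, hv3⟩ := frame_values h hA
  have hwl : ∀ k ∈ [[1, 3, 1, 2] ++ [1, 2, 1, 3], [1, 2, 1, 2, 1] ++ [2, 1, 2]], ∀ x ∈ k, x < 4 := by decide
  have hci : ∀ (c ci : List ℕ), ((ci ++ c).all fun x => decide (x < 4)) = true ∧ wordC (ci ++ c) = enc 1 →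
      val φ σ ci = (φ (word c))⁻¹ := by
    intro c ci hc
    refine eq_inv_of_mul_eq_one_left ?_
    have hlt : ∀ x ∈ c, x < 4 := fun x hx =>
      of_decide_eq_true (List.all_eq_true.mp hc.1 x (List.mem_append_right _ hx))
    rw [← val_word (σ := σ) c hlt, ← val_append, val_eq hc, map_one]
  rcases hf with hfu | hfu
  · have hg : val φ σ [1, 3, 5] = (val φ σ [4, 2, 1])⁻¹ := by
      refine eq_inv_of_mul_eq_one_left ?_
      rw [show val φ σ [1, 3, 5] * val φ σ [4, 2, 1] = φ v0 * (φ b0)⁻¹ * φ b0 * φ v0 by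
        simp [val, gfun, map_inv, mul_assoc], mul_assoc _ _ (φ b0), inv_mul_cancel, mul_one, ← map_mul,
        gens_props.2.2.2.2.1, map_one]
    have hval : val φ σ [4, 2, 1] = σ * φ (b0 * v0) := by simp [val, gfun, map_mul]
    have key : (b0 * v0) * wInv * (b0 * v0)⁻¹ = v1 := by
      have hi : (b0 * v0)⁻¹ = v0 * b0⁻¹ := by rw [mul_inv_rev, inv_eq_of_mul_eq_one_right gens_props.2.2.2.2.1]
      rw [hi, ← word_eq (k := v1) ⟨words_T.1, words_T.2.1⟩]
      simp [word, wInv, kg, mul_assoc]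
    rcases five_candidates h (γ := val φ σ [4, 2, 1]) (u := φ wInv) (q := el 3) (cT := [1, 3, 1, 2])
      (cF := [1, 2, 1, 3]) hf5 hf1 hfr hft hfu (by
        rw [hval]
        calc σ * φ (b0 * v0) * φ wInv * (σ * φ (b0 * v0))⁻¹ = σ * φ ((b0 * v0) * wInv * (b0 * v0)⁻¹) * σ⁻¹ := by
              simp only [map_mul, map_inv]; group
          _ = t := by rw [key, ← hv1]; group) (by
        rw [hval]
        calc σ * φ (b0 * v0) * t * (σ * φ (b0 * v0))⁻¹ = σ * (φ (b0 * v0) * t) * (φ (b0 * v0))⁻¹ * σ⁻¹ := by group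
          _ = σ * t * σ⁻¹ := by rw [h.comm]; group
          _ = φ (el 3) := by rw [← hv3]; group) (List.mem_cons_self ..) (hwl _ (List.mem_cons_self ..)) with hc | hc
    · exact Or.inl (extra_rel hg (hci _ _ (by decide +kernel)) (by decide) hc)
    · exact Or.inr (Or.inl (extra_rel hg (hci _ _ (by decide +kernel)) (by decide) hc))
  · have hg : val φ σ [2, 1, 3, 4] = (val φ σ [5, 2, 1, 3])⁻¹ := by
      refine eq_inv_of_mul_eq_one_left ?_
      rw [show val φ σ [2, 1, 3, 4] * val φ σ [5, 2, 1, 3] = φ b0 * φ v0 * (φ b0)⁻¹ * φ b0 * φ v0 * (φ b0)⁻¹ by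
        simp [val, gfun, map_inv, mul_assoc], ← map_inv, ← map_mul, ← map_mul, ← map_mul, ← map_mul, ← map_mul,
        inv_mul_cancel_right, mul_assoc b0, gens_props.2.2.2.2.1, mul_one, mul_inv_cancel, map_one]
    have hval : val φ σ [5, 2, 1, 3] = σ⁻¹ * φ (b0 * v0 * b0⁻¹) := by
      simp [val, gfun, map_mul, mul_assoc]
    have key : (b0 * v0 * b0⁻¹) * (z0 * wInv) * (b0 * v0 * b0⁻¹)⁻¹ = el 3 := by
      have hi : (b0 * v0 * b0⁻¹)⁻¹ = b0 * v0 * b0⁻¹ := by
        rw [mul_inv_rev, mul_inv_rev, inv_inv, inv_eq_of_mul_eq_one_right gens_props.2.2.2.2.1, mul_assoc]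
      rw [hi, ← word_eq (k := el 3) ⟨words_T.2.2.1, words_T.2.2.2⟩]
      simp [word, wInv, kg, mul_assoc]
    rcases five_candidates h (γ := val φ σ [5, 2, 1, 3]) (u := t * φ wInv) (q := el 4) (cT := [1, 2, 1, 2, 1])
      (cF := [2, 1, 2]) hf5 hf1 hfr hft hfu (by
        rw [hval]
        calc σ⁻¹ * φ (b0 * v0 * b0⁻¹) * (t * φ wInv) * (σ⁻¹ * φ (b0 * v0 * b0⁻¹))⁻¹
            = σ⁻¹ * φ ((b0 * v0 * b0⁻¹) * (z0 * wInv) * (b0 * v0 * b0⁻¹)⁻¹) * σ := by
              simp only [map_mul, map_inv, h.image]; group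
          _ = t := by rw [key, hv3]) (by
        rw [hval]
        calc σ⁻¹ * φ (b0 * v0 * b0⁻¹) * t * (σ⁻¹ * φ (b0 * v0 * b0⁻¹))⁻¹
            = σ⁻¹ * (φ (b0 * v0 * b0⁻¹) * t) * (φ (b0 * v0 * b0⁻¹))⁻¹ * σ := by group
          _ = σ⁻¹ * t * σ := by rw [h.comm]; group
          _ = φ (el 4) := by rw [el_val.2.2.1, hv1]) (List.mem_cons_of_mem _ (List.mem_cons_self ..))
        (hwl _ (List.mem_cons_of_mem _ (List.mem_cons_self ..))) with hc | hc
    · exact Or.inr (Or.inr (Or.inl (extra_rel hg (hci _ _ (by decide +kernel)) (by decide) hc)))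
    · exact Or.inr (Or.inr (Or.inr (extra_rel hg (hci _ _ (by decide +kernel)) (by decide) hc)))

theorem relWords_sub :
    (CertT.relWords.all fun w => baseRels.contains w ||
      w == extra [4, 2, 1] [1, 3, 5] [1, 3, 1, 2] [3, 1, 2, 1]) = true ∧
    (CertA.relWords.all fun w => baseRels.contains w ||
      w == extra [4, 2, 1] [1, 3, 5] [1, 2, 1, 3] [2, 1, 3, 1]) = true ∧
    (CertB.relWords.all fun w => baseRels.contains w ||
      w == extra [5, 2, 1, 3] [2, 1, 3, 4] [1, 2, 1, 2, 1] [1, 3, 1, 3, 1]) = true ∧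
    (CertC.relWords.all fun w => baseRels.contains w ||
      w == extra [5, 2, 1, 3] [2, 1, 3, 4] [2, 1, 2] [3, 1, 3]) = true := by
  decide +kernel

/-- The generators inside the subgroup they generate. -/
def gsub (φ : K →* G) (σ : G) (x : ℕ) : Subgroup.closure (Set.range (gfun φ σ)) :=
  ⟨gfun φ σ x, Subgroup.subset_closure (Set.mem_range_self x)⟩

theorem gsub_good (h : Hyp t φ) : GoodGens (gsub φ σ) where
  inv x hx := Subtype.ext (gfun_inv h x hx)
  triv x hx := Subtype.ext (gfun_triv x hx)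
  gen := by
    refine Eq.trans (congrArg _ (Set.ext fun y => ?_)) Subgroup.closure_closure_coe_preimage
    exact ⟨fun ⟨x, e⟩ => ⟨x, congrArg Subtype.val e⟩, fun ⟨x, e⟩ => ⟨x, Subtype.ext e⟩⟩

theorem gsub_val (w : List ℕ) : ((w.map (gsub φ σ)).prod : G) = val φ σ w := by
  induction w with
  | nil => simp [val]
  | cons x w ih =>
    rw [List.map_cons, List.prod_cons, Subgroup.coe_mul, ih]
    simp [val, gsub]

theorem rels_true (h : Hyp t φ) (h7 : σ ^ 7 = 1) (hA : Acts φ σ m0) (hr : (φ c0)⁻¹ * σ * φ c0 = σ ^ 2)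
    (h15 : ∃ d : G, orderOf d = 15) :
    ∀ w ∈ CertT.relWords, val φ σ w = 1 := by
  obtain ⟨sT, sA, sB, sC⟩ := relWords_sub
  have hb := base_rels h h7 hA hr
  have hall : ∀ (L : List (List ℕ)) (x : List ℕ), (L.all fun w => baseRels.contains w || w == x) = true →
      val φ σ x = 1 → ∀ w ∈ L, val φ σ w = 1 := by
    intro L x hs hx w hw
    rcases (Bool.or_eq_true _ _).mp (List.all_eq_true.mp hs w hw) with e | e
    · exact hb w (List.contains_iff_mem.mp e)
    · rw [beq_iff_eq.mp e]; exact hx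
  have hbad : ∀ (sub rel : List (List ℕ)), sub = [[0], [1], [2]] → (∀ w ∈ rel, val φ σ w = 1) →
      (∀ (H : Subgroup (Subgroup.closure (Set.range (gfun φ σ)))), (∀ w ∈ sub, (w.map (gsub φ σ)).prod ∈ H) →
        (∀ w ∈ rel, (w.map (gsub φ σ)).prod = 1) → H.index ≤ 1) → False := by
    intro sub rel hs hrel hidx
    have hH := hidx (φ.range.subgroupOf _) (fun w hw => ?_)
      (fun w hw => Subtype.ext (by rw [gsub_val, hrel w hw]; rfl))
    · have hne := (φ.range.subgroupOf (Subgroup.closure (Set.range (gfun φ σ)))).index_ne_zero_of_finite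
      have htop := Subgroup.index_eq_one.mp (le_antisymm hH (Nat.one_le_iff_ne_zero.mpr hne))
      obtain ⟨k, hk⟩ : σ ∈ φ.range := by
        have : gsub φ σ 4 ∈ φ.range.subgroupOf _ := htop ▸ Subgroup.mem_top _
        exact this
      have e := (frame_values h hA).1
      have e2 : σ⁻¹ * t * σ = t := by
        rw [mul_assoc, ← hk, ← h.comm k, inv_mul_cancel_left]
      rw [e2, ← h.image, ← el_val.1, ← el_val.2.2.1] at e
      exact absurd (el_inj 1 (by omega) 4 (by omega) (h.inj e)) (by decide)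
    · subst hs
      simp only [List.mem_cons, List.not_mem_nil, or_false] at hw
      show ((w.map (gsub φ σ)).prod : G) ∈ φ.range
      rw [gsub_val, val_word w (by rcases hw with rfl | rfl | rfl <;> decide)]
      exact ⟨_, rfl⟩
  rcases exists_extra h h15 hA with e | e | e | e
  · exact hall _ _ sT e
  · exact (hbad _ _ rfl (hall _ _ sA e) fun H => CertA.index_le H _ (gsub_good h)).elim
  · exact (hbad _ _ rfl (hall _ _ sB e) fun H => CertB.index_le H _ (gsub_good h)).elim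
  · exact (hbad _ _ rfl (hall _ _ sC e) fun H => CertC.index_le H _ (gsub_good h)).elim

theorem closure_gens : Subgroup.closure ({z0, v0, b0} : Set K) = ⊤ := by
  classical
  set M := Subgroup.closure ({z0, v0, b0} : Set K)
  have hz : z0 ∈ M := Subgroup.subset_closure (by simp)
  have hv : v0 ∈ M := Subgroup.subset_closure (by simp)
  have hb : b0 ∈ M := Subgroup.subset_closure (by simp)
  have hc : c0 ∈ M := by
    rw [← word_eq (w := [2, 1, 2, 1, 3, 1]) (k := c0) (by decide +kernel)]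
    refine list_prod_mem fun y hy => ?_
    obtain ⟨x, hx, rfl⟩ := List.mem_map.mp hy
    have : ∀ x ∈ [2, 1, 2, 1, 3, 1], x = 2 ∨ x = 1 ∨ x = 3 := by decide
    rcases this x hx with rfl | rfl | rfl
    · exact hb
    · exact hv
    · exact inv_mem hb
  have hv1 : v1 ∈ M := mul_mem (mul_mem hc hv) (pow_mem hc 2)
  have hS : fourCent ≤ M := by
    intro s hs
    obtain ⟨n, -, rfl⟩ := exists_el (mem_fourCent.mp hs).1 (mem_fourCent.mp hs).2
    exact mul_mem (mul_mem (pow_mem hz _) (pow_mem hv _)) (pow_mem hv1 _)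
  haveI : Fact (Nat.Prime 3) := ⟨by norm_num⟩
  haveI : Fact (Nat.Prime 5) := ⟨by norm_num⟩
  obtain ⟨k1, k2, k3, k4⟩ := kg_inv
  have h3 : 3 ∣ Nat.card M := by
    have := M.orderOf_dvd_natCard hb; rwa [orderOf_eq_prime k1 k4] at this
  have h5 : 5 ∣ Nat.card M := by
    have := M.orderOf_dvd_natCard (mul_mem hv hb); rwa [orderOf_eq_prime k2 k3] at this
  have h8 : 8 ∣ Nat.card M := card_fourCent ▸ Subgroup.card_dvd_of_le hS
  have hle : Nat.card M ∣ 120 := by
    have := M.card_subgroup_dvd_card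
    rwa [Nat.card_eq_fintype_card (α := K), card_K] at this
  refine Subgroup.eq_top_of_card_eq M ?_
  rw [Nat.card_eq_fintype_card (α := K), card_K]
  have h24 : 8 * 3 ∣ Nat.card M := Nat.Coprime.mul_dvd_of_dvd_of_dvd (by norm_num) h8 h3
  exact Nat.dvd_antisymm hle (Nat.Coprime.mul_dvd_of_dvd_of_dvd (m := 8 * 3) (n := 5) (by norm_num) h24 h5)

theorem closure_range (h : Hyp t φ) (h7 : σ ^ 7 = 1) (hA : Acts φ σ m0) (hcard : Nat.card G = 175560) :
    Subgroup.closure (Set.range (gfun φ σ)) = ⊤ := by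
  classical
  set L := Subgroup.closure (Set.range (gfun φ σ))
  have hσ : σ ∈ L := Subgroup.subset_closure ⟨4, rfl⟩
  have hφ : ∀ k, φ k ∈ L := by
    intro k
    have hk : k ∈ Subgroup.closure ({z0, v0, b0} : Set K) := closure_gens ▸ Subgroup.mem_top k
    refine Subgroup.closure_induction (p := fun k _ => φ k ∈ L) ?_ (by rw [map_one]; exact one_mem L)
      (fun x y _ _ hx hy => by rw [map_mul]; exact mul_mem hx hy) (fun x _ hx => by rw [map_inv]; exact inv_mem hx) hk
    rintro x (rfl | rfl | rfl)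
    · exact Subgroup.subset_closure ⟨0, rfl⟩
    · exact Subgroup.subset_closure ⟨1, rfl⟩
    · exact Subgroup.subset_closure ⟨2, rfl⟩
  have htL : t ∈ L := h.image ▸ hφ z0
  have hC : ∀ x, x * t = t * x → x ∈ L := fun x hx => by
    obtain ⟨k, rfl⟩ := (h.range x).mp hx
    exact hφ k
  have hS : ∀ n, n < 8 → n ≠ 0 → ∃ l ∈ L, l * t * l⁻¹ = φ (el n) := by
    intro n hn h0
    obtain ⟨i, -, hi⟩ := m0_trans n hn h0
    refine ⟨(σ ^ i)⁻¹, inv_mem (pow_mem hσ i), ?_⟩
    rw [inv_inv, ← hi, ← h.image, ← el_val.1]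
    exact ((hA.pow i) 1 (by omega)).2
  haveI : Fact (Nat.Prime 2) := ⟨Nat.prime_two⟩
  obtain ⟨P, hP⟩ := h.exists_sylow
  have hPL : (P : Subgroup G) ≤ L := by
    rw [hP]; rintro _ ⟨s, -, rfl⟩; exact hφ s
  have hinv : ∀ s ∈ L, s * s = 1 → s ≠ 1 → ∃ l ∈ L, l * t * l⁻¹ = s := by
    intro s hs hs2 hs1
    obtain ⟨Q, hQ⟩ := (IsPGroup.of_card (n := 1) (by
      rw [Nat.card_zpowers, pow_one, Subgroup.orderOf_mk]
      exact orderOf_eq_prime (by rw [sq, hs2]) hs1) : IsPGroup 2 (Subgroup.zpowers (⟨s, hs⟩ : L))).exists_le_sylow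
    obtain ⟨g, hg⟩ := MulAction.exists_smul_eq L Q (P.subtype hPL)
    have hm : g * (⟨s, hs⟩ : L) * g⁻¹ ∈ ((P.subtype hPL : Sylow 2 L) : Subgroup L) := by
      rw [← hg, Sylow.coe_subgroup_smul]
      exact Subgroup.mem_map.mpr ⟨_, hQ (Subgroup.mem_zpowers _), by simp⟩
    have hm' : (g : G) * s * (g : G)⁻¹ ∈ fourCent.map φ := hP ▸ (hm : (g : G) * s * (g : G)⁻¹ ∈ (P : Subgroup G))
    obtain ⟨k, hk, hke⟩ := hm'
    obtain ⟨n, hn, rfl⟩ := exists_el (mem_fourCent.mp hk).1 (mem_fourCent.mp hk).2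
    have h0 : n ≠ 0 := by
      rintro rfl
      rw [el_val.2.2.2, map_one, eq_comm, conj_eq_one_iff] at hke
      exact hs1 hke
    obtain ⟨l, hl, hle⟩ := hS n hn h0
    refine ⟨(g : G)⁻¹ * l, mul_mem (inv_mem g.2) hl, ?_⟩
    calc (g : G)⁻¹ * l * t * ((g : G)⁻¹ * l)⁻¹ = (g : G)⁻¹ * (l * t * l⁻¹) * g := by group
      _ = s := by rw [hle, hke]; group
  -- the order of `L`
  letI : MulAction L G := MulAction.compHom G ((ConjAct.toConjAct : G ≃* ConjAct G).toMonoidHom.comp L.subtype)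
  have hsmul : ∀ (n : L) (x : G), n • x = (n : G) * x * (n : G)⁻¹ := fun n x => ConjAct.smul_def _ _
  have hstab : Nat.card (MulAction.stabilizer L t) = 120 := by
    rw [← h.card_centralizer]
    refine Nat.card_congr (Equiv.ofBijective (fun x => (⟨((x.1 : L) : G), mem_centralizer_singleton_iff.mpr
      (mul_inv_eq_iff_eq_mul.mp ((hsmul _ _).symm.trans (MulAction.mem_stabilizer_iff.mp x.2)))⟩ :
        Subgroup.centralizer ({t} : Set G))) ⟨fun a b e => ?_, fun ⟨y, hy⟩ => ?_⟩)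
    · exact Subtype.ext (Subtype.ext (congrArg Subtype.val e :))
    · have hyt := mem_centralizer_singleton_iff.mp hy
      exact ⟨⟨⟨y, hC y hyt⟩, by rw [MulAction.mem_stabilizer_iff, hsmul]; exact mul_inv_eq_iff_eq_mul.mpr hyt⟩, rfl⟩
  have horb : 8 ≤ Nat.card (MulAction.orbit L t) := by
    let x8 : Fin 8 → G := fun i => if (i : ℕ) = 0 then φ (b0 * v0 * b0⁻¹) else φ (el i)
    have hmem : ∀ i, x8 i ∈ MulAction.orbit L t := by
      intro i
      by_cases h0 : (i : ℕ) = 0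
      · obtain ⟨l, hl, e⟩ := hS 2 (by omega) (by omega)
        refine ⟨⟨φ b0 * l, mul_mem (hφ b0) hl⟩, ?_⟩
        show (⟨φ b0 * l, _⟩ : L) • t = x8 i
        rw [hsmul]
        simp only [x8, if_pos h0, map_mul, map_inv]
        calc φ b0 * l * t * (φ b0 * l)⁻¹ = φ b0 * (l * t * l⁻¹) * (φ b0)⁻¹ := by group
          _ = _ := by rw [e, el_val.2.1]
      · obtain ⟨l, hl, e⟩ := hS i i.2 h0
        exact ⟨⟨l, hl⟩, by show (⟨l, hl⟩ : L) • t = x8 i; rw [hsmul]; simp only [x8, if_neg h0]; exact e⟩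
    have hinj : Function.Injective x8 := by
      intro i j e
      have hout : ∀ n, n < 8 → φ (b0 * v0 * b0⁻¹) ≠ φ (el n) := fun n hn e' =>
        extra_inv (by rw [h.inj e']; exact (el_comm n hn).1)
      apply Fin.ext
      simp only [x8] at e
      split_ifs at e with h1 h2 h2
      · omega
      · exact absurd e (hout _ j.2)
      · exact absurd e.symm (hout _ i.2)
      · exact el_inj _ i.2 _ j.2 (h.inj e)
    have := Nat.card_le_card_of_injective (fun i => (⟨x8 i, hmem i⟩ : MulAction.orbit L t))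
      fun i j e => hinj (congrArg Subtype.val e)
    simpa using this
  have hLcard : Nat.card L = Nat.card (MulAction.orbit L t) * 120 := by
    rw [← Nat.card_congr (MulAction.orbitProdStabilizerEquivGroup L t), Nat.card_prod, hstab]
  have h840 : 840 ∣ Nat.card L := by
    have h7' : 7 ∣ Nat.card L := by
      haveI : Fact (Nat.Prime 7) := ⟨by norm_num⟩
      have hne : σ ≠ 1 := fun e => by
        have := (frame_values h hA).1
        rw [e, inv_one, one_mul, mul_one, ← h.image, ← el_val.1, ← el_val.2.2.1] at this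
        exact absurd (el_inj 1 (by omega) 4 (by omega) (h.inj this)) (by decide)
      exact (dvd_of_eq (orderOf_eq_prime h7 hne).symm).trans (L.orderOf_dvd_natCard hσ)
    exact Nat.Coprime.mul_dvd_of_dvd_of_dvd (m := 7) (n := 120) (by norm_num) h7' (hLcard ▸ dvd_mul_left _ _)
  have hmul : Nat.card L * L.index = 175560 := hcard ▸ L.card_mul_index
  have hindex : L.index = 1 ∨ L.index = 11 ∨ L.index = 19 := by
    obtain ⟨a, ha⟩ := h840
    have h209 : a * L.index = 209 := by rw [ha, mul_assoc] at hmul; omega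
    have hdec : ∀ d ∈ Nat.divisors 209, d = 1 ∨ d = 11 ∨ d = 19 ∨ d = 209 := by decide +kernel
    rcases hdec _ (Nat.mem_divisors.mpr ⟨Dvd.intro_left a h209, by norm_num⟩) with e | e | e | e
    · exact Or.inl e
    · exact Or.inr (Or.inl e)
    · exact Or.inr (Or.inr e)
    · exfalso
      rw [e] at hmul
      omega
  by_contra hne
  have hn : L.index = 11 ∨ L.index = 19 := hindex.resolve_left fun e => hne (Subgroup.index_eq_one.mp e)
  letI : Fintype (G ⧸ L) := Fintype.ofFinite _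
  let π : G →* ℤˣ := Equiv.Perm.sign.comp (MulAction.toPermHom G (G ⧸ L))
  have hπ : π t = 1 := by
    have hk : π.ker.index = 1 := by
      have hdvd : π.ker.index ∣ 2 := by
        rw [Subgroup.index_ker, show 2 = Nat.card ℤˣ by simp]
        exact Subgroup.card_subgroup_dvd_card _
      exact ((Nat.dvd_prime Nat.prime_two).mp hdvd).resolve_right (h.noIndexTwo _)
    exact MonoidHom.mem_ker.mp ((Subgroup.index_eq_one.mp hk).symm ▸ Subgroup.mem_top t)
  set τ := MulAction.toPermHom G (G ⧸ L) t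
  have hτ2 : τ * τ = 1 := by rw [← map_mul, h.t_sq, map_one]
  have hsupp : τ.support = Finset.univ.erase ((1 : G) : G ⧸ L) := by
    ext x
    simp only [Equiv.Perm.mem_support, Finset.mem_erase, Finset.mem_univ, and_true]
    refine not_congr ⟨?_, ?_⟩
    · obtain ⟨g, rfl⟩ := QuotientGroup.mk_surjective x
      intro hx
      have hx' : g⁻¹ * t * g ∈ L := by
        have := QuotientGroup.eq.mp (show ((g : G) : G ⧸ L) = ((t * g : G) : G ⧸ L) from hx.symm)
        rwa [← mul_assoc] at this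
      obtain ⟨l, hl, e⟩ := hinv _ hx' (by
          calc g⁻¹ * t * g * (g⁻¹ * t * g) = g⁻¹ * (t * t) * g := by group
            _ = 1 := by rw [h.t_sq]; group)
        (fun e => h.t_ne (by rwa [← conj_eq_one_iff (a := g⁻¹), inv_inv]))
      have hgl : g * l ∈ L := hC _ (by
        calc g * l * t = g * (l * t * l⁻¹) * l := by group
          _ = t * (g * l) := by rw [e]; group)
      refine QuotientGroup.eq.mpr ?_
      rw [mul_one]
      exact inv_mem ((mul_mem_cancel_right hl).mp hgl)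
    · rintro rfl
      show ((t * 1 : G) : G ⧸ L) = ((1 : G) : G ⧸ L)
      refine QuotientGroup.eq.mpr ?_
      rw [mul_one, mul_one]
      exact inv_mem htL
  have hcount := CfsgLib.EightSubgroups.sign_involution hτ2 hπ
  rw [hsupp, Finset.card_erase_of_mem (Finset.mem_univ _), Finset.card_univ, ← Nat.card_eq_fintype_card,
    ← Subgroup.index_eq_card] at hcount
  rcases hn with e | e <;> rw [e] at hcount <;> omega

end CfsgLib.J1Unique
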