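/-
Uniqueness of J1 from the centraliser of an involution, given the order.
-/
import Cfsg.Agent.Lib.J1Unique.Tuple

set_option autoImplicit false
set_option linter.unusedSectionVars false

namespace CfsgLib.J1Unique

open CfsgLib.JankoOne Subgroup

/-- Generators satisfying the relations of J1. -/
theorem exists_tuple {G : Type*} [Group G] [Finite G] {t : G} {φ : K →* G} (h : Hyp t φ)
    (hcard : Nat.card G = 175560) (h15 : ∃ d : G, orderOf d = 15) :
    ∃ (ψ : K →* G) (σ : G), Hyp t ψ ∧ (∀ w ∈ CertT.relWords, val ψ σ w = 1) ∧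
      Subgroup.closure (Set.range (gfun ψ σ)) = ⊤ := by
  obtain ⟨ψ, σ, hψ, h7, hA, hr⟩ := exists_frame h
  exact ⟨ψ, σ, hψ, rels_true hψ h7 hA hr h15, closure_range hψ h7 hA hcard⟩

theorem bijective_projection {P M : Type*} [Group P] [Finite P] [Group M] [Finite M] (π : P →* M) (g : ℕ → P)
    (hL : Nat.card (Subgroup.closure (Set.range g)) ≤ 175560) (hM : Nat.card M = 175560)
    (htop : Subgroup.closure (Set.range fun x => π (g x)) = ⊤) :
    Function.Bijective (π.comp (Subgroup.closure (Set.range g)).subtype) := by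
  have hs : Function.Surjective (π.comp (Subgroup.closure (Set.range g)).subtype) := by
    rw [← MonoidHom.range_eq_top, MonoidHom.range_comp, Subgroup.range_subtype]
    rw [eq_top_iff, ← htop, Subgroup.closure_le]
    rintro _ ⟨x, rfl⟩
    exact ⟨g x, Subgroup.subset_closure (Set.mem_range_self x), rfl⟩
  exact (Nat.bijective_iff_surjective_and_card _).mpr
    ⟨hs, le_antisymm (hL.trans hM.ge) (Nat.card_le_card_of_surjective _ hs)⟩

theorem nonempty_mulEquiv {G H : Type*} [Group G] [Finite G] [Group H] [Finite H] {t : G} {u : H}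
    {φ : K →* G} {χ : K →* H} (hφ : Hyp t φ) (hχ : Hyp u χ) (hG : Nat.card G = 175560) (hH : Nat.card H = 175560)
    (hG15 : ∃ d : G, orderOf d = 15) (hH15 : ∃ d : H, orderOf d = 15) : Nonempty (G ≃* H) := by
  obtain ⟨ψ, σ, hψ, rG, gG⟩ := exists_tuple hφ hG hG15
  obtain ⟨ω, ρ, hω, rH, gH⟩ := exists_tuple hχ hH hH15
  let g : ℕ → G × H := fun x => (gfun ψ σ x, gfun ω ρ x)
  set L := Subgroup.closure (Set.range g)
  let gs : ℕ → L := fun x => ⟨g x, Subgroup.subset_closure (Set.mem_range_self x)⟩
  have hgood : GoodGens gs :=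
    { inv := fun x hx => Subtype.ext (Prod.ext (gfun_inv hψ x hx) (gfun_inv hω x hx))
      triv := fun x hx => Subtype.ext (Prod.ext (gfun_triv x hx) (gfun_triv x hx))
      gen := by
        refine Eq.trans (congrArg _ (Set.ext fun y => ?_)) Subgroup.closure_closure_coe_preimage
        exact ⟨fun ⟨x, e⟩ => ⟨x, congrArg Subtype.val e⟩, fun ⟨x, e⟩ => ⟨x, Subtype.ext e⟩⟩ }
  have hval : ∀ w : List ℕ, ((w.map gs).prod : G × H) = (val ψ σ w, val ω ρ w) := by
    intro w
    induction w with
    | nil => exact Prod.ext (by simp [val]) (by simp [val])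
    | cons x w ih =>
      rw [List.map_cons, List.prod_cons, Subgroup.coe_mul, ih]
      simp [val, gs, g]
  let D : Subgroup L := (ψ.prod ω).range.subgroupOf L
  have hidx : D.index ≤ 1463 := by
    refine CertT.index_le D gs hgood (fun w hw => ?_) (fun w hw => Subtype.ext ?_)
    · have hw' : w = [0] ∨ w = [1] ∨ w = [2] := by simpa [CertT.subWords] using hw
      show ((w.map gs).prod : G × H) ∈ (ψ.prod ω).range
      rw [hval, val_word w (by rcases hw' with rfl | rfl | rfl <;> decide),
        val_word w (by rcases hw' with rfl | rfl | rfl <;> decide)]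
      exact ⟨_, rfl⟩
    · rw [hval, rG w hw, rH w hw]
      rfl
  have hD : Nat.card D ≤ 120 := by
    have h1 : Nat.card D ≤ Nat.card (ψ.prod ω).range :=
      Nat.card_le_card_of_injective (fun x : D => (⟨((x : L) : G × H), x.2⟩ : (ψ.prod ω).range))
        fun a b e => Subtype.ext (Subtype.ext (congrArg Subtype.val e :))
    refine h1.trans ((Nat.card_le_card_of_surjective _ (ψ.prod ω).rangeRestrict_surjective).trans ?_)
    rw [Nat.card_eq_fintype_card (α := K), card_K]
  have hL : Nat.card L ≤ 175560 := by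
    rw [← D.card_mul_index]
    calc Nat.card D * D.index ≤ 120 * 1463 := Nat.mul_le_mul hD hidx
      _ = 175560 := by norm_num
  exact ⟨((MulEquiv.ofBijective _ (bijective_projection (MonoidHom.fst G H) g hL hG gG)).symm.trans
    (MulEquiv.ofBijective _ (bijective_projection (MonoidHom.snd G H) g hL hH gH)))⟩

end CfsgLib.J1Unique
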