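/-
Simple groups with an involution centraliser of J1 type are isomorphic to J1.
-/
import Cfsg.Agent.Lib.J1Unique.Main
import Cfsg.Agent.Lib.JankoOne.Classes
import Cfsg.Agent.Lib.J1.Order
import Cfsg.Prelude.Def_Spor_J1

set_option autoImplicit false
set_option linter.unusedSectionVars false

namespace CfsgLib.J1Unique

open CfsgLib.JankoOne

theorem iso_of_centralizers {G H : Type*} [Group G] [Finite G] [IsSimpleGroup G] [Group H] [Finite H] [IsSimpleGroup H]
    (t : G) (u : H) (ht : Cfsg.IsTwoCentralInvolution t) (hu : Cfsg.IsTwoCentralInvolution u)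
    (e : Subgroup.centralizer ({t} : Set G) ≃* K) (f : Subgroup.centralizer ({u} : Set H) ≃* K) :
    Nonempty (G ≃* H) := by
  classical
  haveI := Fintype.ofFinite G
  haveI := Fintype.ofFinite H
  obtain ⟨φ, hφ⟩ := exists_hyp t ht e
  obtain ⟨χ, hχ⟩ := exists_hyp u hu f
  exact nonempty_mulEquiv hφ hχ hφ.order.1 hχ.order.1 hφ.order.2 hχ.order.2

theorem twoCentral_of_card {G : Type*} [Group G] [Finite G] {t : G} (ht : orderOf t = 2)
    (h8 : ∀ P : Sylow 2 G, Nat.card (P : Subgroup G) = 8)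
    (e : Subgroup.centralizer ({t} : Set G) ≃* K) : Cfsg.IsTwoCentralInvolution t := by
  haveI : Fact (Nat.Prime 2) := ⟨Nat.prime_two⟩
  obtain ⟨Q⟩ : Nonempty (Sylow 2 (Subgroup.centralizer ({t} : Set G))) := inferInstance
  set C := Subgroup.centralizer ({t} : Set G)
  have hC : Nat.card C = 120 := by rw [Nat.card_congr e.toEquiv, Nat.card_eq_fintype_card (α := K), card_K]
  have hQ : 8 ≤ Nat.card (Q : Subgroup C) :=
    Nat.le_of_dvd Nat.card_pos (Q.pow_dvd_card_of_pow_dvd_card (n := 3) (by rw [hC]; norm_num))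
  obtain ⟨P, hP⟩ := (Q.2.map C.subtype).exists_le_sylow
  suffices key : ∀ x ∈ (P : Subgroup G), x * t = t * x by
    refine ⟨ht, P, ?_, key⟩
    -- a commuting `2`-element lies in the Sylow subgroup
    have hn : t ∈ Subgroup.normalizer ((P : Subgroup G) : Set G) := by
      refine Subgroup.mem_normalizer_fintype (S := ((P : Subgroup G) : Set G)) fun x hx => ?_
      rw [← key x hx, mul_inv_cancel_right]
      exact hx
    obtain ⟨R, hR⟩ : ∃ R : Sylow 2 G, (P : Subgroup G) ⊔ Subgroup.zpowers t ≤ R :=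
      ((P.2.to_sup_of_normal_left' (IsPGroup.of_card (n := 1) (by rw [Nat.card_zpowers, ht, pow_one]))
        (Subgroup.zpowers_le.mpr hn))).exists_le_sylow
    have heR := P.3 R.2 (le_sup_left.trans hR)
    show t ∈ (P : Subgroup G)
    rw [← heR]
    exact hR (le_sup_right (a := (P : Subgroup G)) (Subgroup.mem_zpowers t))
  have heq : (Q : Subgroup C).map C.subtype = (P : Subgroup G) :=
    Subgroup.eq_of_le_of_card_ge hP (by rw [h8 P, Subgroup.card_map_of_injective C.subtype_injective]; exact hQ)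
  intro x hx
  have hx' : x ∈ (Q : Subgroup C).map C.subtype := heq ▸ hx
  obtain ⟨y, -, rfl⟩ := hx'
  exact Subgroup.mem_centralizer_singleton_iff.mp y.2

theorem isoJ1_of_centralizer {G : Type*} [Group G] [Finite G] [IsSimpleGroup G]
    (h8 : ∀ P : Sylow 2 G, Nat.card (P : Subgroup G) = 8) (t : G) (ht : orderOf t = 2)
    (e : Subgroup.centralizer ({t} : Set G) ≃* K) : Cfsg.Spor.IsoJ1 G := by
  haveI : Fact (Nat.Prime 2) := ⟨Nat.prime_two⟩
  haveI : IsSimpleGroup ↥Cfsg.Spor.J1 := CfsgLib.J1.isJ1.1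
  obtain ⟨u, hu, ⟨f⟩⟩ := CfsgLib.J1.exists_centralizer_equiv
  have hJ8 : ∀ P : Sylow 2 ↥Cfsg.Spor.J1, Nat.card (P : Subgroup ↥Cfsg.Spor.J1) = 8 := by
    intro P
    have h1 := P.pow_dvd_card_of_pow_dvd_card (n := 3) (by rw [CfsgLib.J1.card_J1]; norm_num)
    obtain ⟨k, hk⟩ := IsPGroup.iff_card.mp P.2
    have h2 : 2 ^ k ∣ 175560 := hk ▸ CfsgLib.J1.card_J1 ▸ Subgroup.card_subgroup_dvd_card _
    rw [hk] at h1 ⊢
    have hk4 : k < 4 := by
      by_contra hc
      have h16 : 2 ^ 4 ∣ 175560 := (pow_dvd_pow 2 (show 4 ≤ k by omega)).trans h2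
      norm_num at h16
    have hk3 : 3 ≤ k := (Nat.pow_dvd_pow_iff_le_right (by norm_num)).mp h1
    rw [show k = 3 by omega]
    rfl
  exact iso_of_centralizers t u (twoCentral_of_card ht h8 e) (twoCentral_of_card hu hJ8 f) e f

end CfsgLib.J1Unique
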